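import Cfsg.Prelude.Def_BaumannBlocks
import Cfsg.Agent.Lib.PGroups.Thompson
import Cfsg.Agent.Lib.CharP.AsymLLemma
import Cfsg.Agent.Lib.CharP.FStar
import Cfsg.Agent.Lib.Coprime.Commutator
import Cfsg.Agent.Lib.CharP.SL2FixedPoint

/-!
# Blocks relative to the Baumann subgroup: first properties

`p`-subgroups normalised by a block and by `B(T)` normalise the block; the commutator module of a block lies in
`Ω₁(Z(O_p(G)))`.

Owner: helper19.
-/

set_option autoImplicit false
set_option linter.style.haveILetI false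

open Cfsg
open scoped commutatorElement

namespace Cfsg.Agent.Lib.Baumann

variable {G : Type*} [Group G] [Finite G] {p : ℕ} [hp : Fact p.Prime] {E : Subgroup G}

omit [Finite G] hp in
theorem mem_normalizer_of_forall [Finite G] {H : Subgroup G} {g : G} (h : ∀ x ∈ H, g * x * g⁻¹ ∈ H) :
    g ∈ Subgroup.normalizer (H : Set G) := by
  refine PGroups.mem_normalizer_of_map_conj_eq (Subgroup.eq_of_le_of_card_ge ?_ ?_)
  · rintro _ ⟨x, hx, rfl⟩; exact h x hx
  · rw [Subgroup.card_map_of_injective (MulAut.conj g).injective]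

omit hp in
theorem pResidualOf_eq_closure (E : Subgroup G) :
    Cfsg.pResidualOf p E = Subgroup.closure {g | g ∈ E ∧ (orderOf g).Coprime p} :=
  CharP.map_pResidual_subtype E

/-- Modulo a normal subgroup complemented by a `p`-group, elements of order prime to `p` vanish. -/
theorem mem_of_coprime {P : Subgroup G} (hP : IsPGroup p P) (hPE : P ≤ Subgroup.normalizer (E : Set G))
    {x : G} (hx : x ∈ E ⊔ P) (hxo : (orderOf x).Coprime p) : x ∈ E := by
  haveI hn : (E.subgroupOf (E ⊔ P)).Normal :=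
    (Subgroup.normal_subgroupOf_iff_le_normalizer le_sup_left).2 (sup_le Subgroup.le_normalizer hPE)
  set f := QuotientGroup.mk' (E.subgroupOf (E ⊔ P)) with hf
  have htop : ((⊤ : Subgroup (↥(E ⊔ P) ⧸ E.subgroupOf (E ⊔ P)))) ≤ (P.subgroupOf (E ⊔ P)).map f := by
    rw [← Subgroup.map_top_of_surjective f (QuotientGroup.mk'_surjective _),
      ← Subgroup.subgroupOf_self, Subgroup.subgroupOf_sup le_sup_left le_sup_right, Subgroup.map_sup,
      sup_le_iff]
    refine ⟨le_trans ?_ bot_le, le_rfl⟩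
    rw [le_bot_iff, Subgroup.map_eq_bot_iff, hf, QuotientGroup.ker_mk']
  obtain ⟨k, hk⟩ := isPGroup_iff_pow_pow_eq_one.1 ((hP.comap_subtype (K := E ⊔ P)).map f)
    ⟨f ⟨x, hx⟩, htop (Subgroup.mem_top _)⟩
  have h1 : f ⟨x, hx⟩ ^ p ^ k = 1 := congrArg Subtype.val hk
  have h2 : f ⟨x, hx⟩ ^ orderOf x = 1 := by
    rw [← map_pow, show (⟨x, hx⟩ : ↥(E ⊔ P)) ^ orderOf x = 1 from Subtype.ext (by simp [pow_orderOf_eq_one]),
      map_one]
  have h3 := pow_gcd_eq_one.2 ⟨h2, h1⟩
  rw [show Nat.gcd (orderOf x) (p ^ k) = 1 from hxo.pow_right k, pow_one] at h3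
  exact (QuotientGroup.eq_one_iff (⟨x, hx⟩ : ↥(E ⊔ P))).1 h3

omit hp in
theorem le_normalizer_of_commutator_eq {B : Subgroup G} (h : ⁅E, B⁆ = E) :
    B ≤ Subgroup.normalizer (E : Set G) := by
  have := Coprime.right_le_normalizer_commutator E B
  rwa [h] at this

/-- A `p`-group normalised by `B(T)` normalises it. -/
theorem le_normalizer_baumann (T : Sylow p G) {Q : Subgroup G} (hQ : IsPGroup p Q)
    (hBQ : Cfsg.baumannSubgroupOf p (T : Subgroup G) ≤ Subgroup.normalizer (Q : Set G)) :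
    Q ≤ Subgroup.normalizer (Cfsg.baumannSubgroupOf p (T : Subgroup G) : Set G) := by
  set B := Cfsg.baumannSubgroupOf p (T : Subgroup G) with hB
  have hBp : IsPGroup p B := T.isPGroup'.to_le inf_le_left
  obtain ⟨T', hT'⟩ := (hBp.to_sup_of_normal_right' hQ hBQ).exists_le_sylow
  set J := Cfsg.thompsonSubgroupOf p (T : Subgroup G) with hJ
  have hJB : J ≤ B := by
    refine le_inf (PGroups.thompsonSubgroupOf_le p _) fun j hj => ?_
    have hle : Cfsg.omegaOne p (Cfsg.centerThompsonOf p (T : Subgroup G)) ≤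
        Subgroup.centralizer ({j} : Set G) := by
      rw [Cfsg.omegaOne, Subgroup.closure_le]
      rintro z ⟨hz, -⟩
      exact Subgroup.mem_centralizer_singleton_iff.2 (Subgroup.mem_centralizer_iff.1 hz.2 j hj).symm
    exact Subgroup.mem_centralizer_iff.2 fun z hz => Subgroup.mem_centralizer_singleton_iff.1 (hle hz)
  have hBT' : B ≤ (T' : Subgroup G) := le_sup_left.trans hT'
  obtain ⟨g, hg⟩ := MulAction.exists_smul_eq G T T'
  have hmap : (T : Subgroup G).map (MulAut.conj g).toMonoidHom = (T' : Subgroup G) := by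
    rw [← hg]; rfl
  obtain ⟨A, hA⟩ := PGroups.maxElemAbIn_nonempty p (T' : Subgroup G)
  have hJ' : J ≤ Cfsg.thompsonSubgroupOf p (T' : Subgroup G) := by
    rw [hJ, PGroups.thompsonSubgroupOf_eq, sSup_le_iff]
    intro X hX
    refine PGroups.le_thompsonSubgroupOf ⟨((PGroups.le_thompsonSubgroupOf hX).trans hJB).trans hBT', hX.2.1,
      fun Y hY hY' => ?_⟩
    have h2 := hX.2.2 (Y.map (MulAut.conj g⁻¹).toMonoidHom) ?_ (PGroups.elemAb_map _ hY')
    · rwa [Subgroup.card_map_of_injective (MulAut.conj g⁻¹).injective] at h2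
    · rintro _ ⟨y, hy, rfl⟩
      obtain ⟨t, ht, rfl⟩ := hmap.ge (hY hy)
      show g⁻¹ * ((MulAut.conj g).toMonoidHom t) * (g⁻¹)⁻¹ ∈ (T : Subgroup G)
      rw [show g⁻¹ * ((MulAut.conj g).toMonoidHom t) * (g⁻¹)⁻¹ = t by simp [mul_assoc]]
      exact ht
  have hJeq : J = Cfsg.thompsonSubgroupOf p (T' : Subgroup G) := by
    refine Subgroup.eq_of_le_of_card_ge hJ' ?_
    rw [← hmap, ← PGroups.thompsonSubgroupOf_conj, Subgroup.card_map_of_injective (MulAut.conj g).injective]
  have hQT : Q ≤ (T' : Subgroup G) := le_sup_right.trans hT'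
  set Ω := Cfsg.omegaOne p (Cfsg.centerThompsonOf p (T' : Subgroup G)) with hΩ
  have hΩeq : Cfsg.omegaOne p (Cfsg.centerThompsonOf p (T : Subgroup G)) = Ω := by
    rw [hΩ, Cfsg.centerThompsonOf, Cfsg.centerThompsonOf, ← hJeq]
  have hBB : B = (T' : Subgroup G) ⊓ Subgroup.centralizer (Ω : Set G) := by
    refine Subgroup.eq_of_le_of_card_ge (le_inf hBT' (hΩeq ▸ inf_le_right)) ?_
    have hsub : ((T' : Subgroup G) ⊓ Subgroup.centralizer (Ω : Set G)).map (MulAut.conj g⁻¹).toMonoidHom ≤ B := by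
      rintro _ ⟨b, ⟨hbT, hbc⟩, rfl⟩
      obtain ⟨t, ht, rfl⟩ := hmap.ge hbT
      refine ⟨by simpa [mul_assoc] using ht, ?_⟩
      have hle : Cfsg.omegaOne p (Cfsg.centerThompsonOf p (T : Subgroup G)) ≤ Subgroup.centralizer ({t} : Set G) := by
        rw [Cfsg.omegaOne, Subgroup.closure_le]
        rintro z ⟨hz, hzp⟩
        have hgz : g * z * g⁻¹ ∈ Ω := by
          refine Subgroup.subset_closure ⟨?_, by rw [conj_pow, hzp, mul_one, mul_inv_cancel]⟩
          rw [← hmap, ← PGroups.map_centerThompsonOf _ (MulAut.conj g).injective]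
          exact ⟨z, hz, rfl⟩
        have h1 := Subgroup.mem_centralizer_iff.1 hbc _ hgz
        have h2 : g * (z * t) * g⁻¹ = g * (t * z) * g⁻¹ := by simpa [mul_assoc] using h1
        exact Subgroup.mem_centralizer_singleton_iff.2 (mul_left_cancel (mul_right_cancel h2))
      rw [show (MulAut.conj g⁻¹).toMonoidHom ((MulAut.conj g).toMonoidHom t) = t by simp [mul_assoc]]
      exact Subgroup.mem_centralizer_iff.2 fun z hz => Subgroup.mem_centralizer_singleton_iff.1 (hle hz)
    have := Subgroup.card_le_of_le hsub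
    rwa [Subgroup.card_map_of_injective (MulAut.conj g⁻¹).injective] at this
  intro q hq
  refine mem_normalizer_of_forall fun b hb => ?_
  rw [hBB] at hb ⊢
  have hqJ : q ∈ Subgroup.normalizer (Cfsg.centerThompsonOf p (T' : Subgroup G) : Set G) :=
    PGroups.normalizer_le_normalizer_centerThompson _ (Subgroup.le_normalizer (hQT hq))
  refine Subgroup.mem_inf.2 ⟨mul_mem (mul_mem (hQT hq) hb.1) (inv_mem (hQT hq)), ?_⟩
  have hle : Ω ≤ Subgroup.centralizer ({q * b * q⁻¹} : Set G) := by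
    rw [hΩ, Cfsg.omegaOne, Subgroup.closure_le]
    rintro z ⟨hz, hzp⟩
    have hz' : q⁻¹ * z * q ∈ Ω := Subgroup.subset_closure
      ⟨(Subgroup.mem_normalizer_iff''.1 hqJ z).1 hz, by
        rw [show q⁻¹ * z * q = q⁻¹ * z * q⁻¹⁻¹ by rw [inv_inv], conj_pow, hzp, mul_one, mul_inv_cancel]⟩
    have h1 := Subgroup.mem_centralizer_iff.1 hb.2 _ hz'
    rw [SetLike.mem_coe, Subgroup.mem_centralizer_singleton_iff]
    calc z * (q * b * q⁻¹) = q * ((q⁻¹ * z * q) * b) * q⁻¹ := by group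
      _ = q * (b * (q⁻¹ * z * q)) * q⁻¹ := by rw [h1]
      _ = q * b * q⁻¹ * z := by group
  exact Subgroup.mem_centralizer_iff.2 fun z hz => Subgroup.mem_centralizer_singleton_iff.1 (hle hz)

/-- A `p`-group normalised by `E = O^p(E) = [E, B(T)]` and by `B(T)` normalises `E`. -/
theorem le_normalizer_block (T : Sylow p G) (hres : Cfsg.pResidualOf p E = E)
    (hcomm : ⁅E, Cfsg.baumannSubgroupOf p (T : Subgroup G)⁆ = E) {Q : Subgroup G} (hQ : IsPGroup p Q)
    (hBQ : Cfsg.baumannSubgroupOf p (T : Subgroup G) ≤ Subgroup.normalizer (Q : Set G))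
    (hEQ : E ≤ Subgroup.normalizer (Q : Set G)) : Q ≤ Subgroup.normalizer (E : Set G) := by
  set B := Cfsg.baumannSubgroupOf p (T : Subgroup G) with hB
  have hBE : B ≤ Subgroup.normalizer (E : Set G) := le_normalizer_of_commutator_eq hcomm
  have hQB := le_normalizer_baumann T hQ hBQ
  set X := Q ⊓ Subgroup.normalizer (E : Set G) with hX
  by_contra hne
  have hXQ : X < Q := lt_of_le_of_ne inf_le_left fun h => hne (inf_eq_left.1 h)
  set Y := Q ⊓ Subgroup.normalizer (X : Set G) with hY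
  have hXY : X < Y := by
    haveI := hQ.isNilpotent
    have hlt : X.subgroupOf Q < ⊤ := lt_top_iff_ne_top.2 fun h => hXQ.not_ge (Subgroup.subgroupOf_eq_top.1 h)
    obtain ⟨y, hy, hyX⟩ := SetLike.exists_of_lt (Group.normalizerCondition_of_isNilpotent _ hlt)
    rw [← Subgroup.subgroupOf_normalizer_eq hXQ.le] at hy
    exact lt_of_le_of_ne (le_inf inf_le_left Subgroup.le_normalizer) fun h =>
      hyX (show (y : G) ∈ X from h ▸ ⟨y.2, hy⟩)
  have hnor : ∀ H : Subgroup G, H ≤ Subgroup.normalizer (Q : Set G) →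
      H ≤ Subgroup.normalizer (E : Set G) →
      H ≤ Subgroup.normalizer (X : Set G) ∧ H ≤ Subgroup.normalizer (Y : Set G) := by
    intro H hHQ hHE
    have h1 : H ≤ Subgroup.normalizer (X : Set G) := fun h hh => mem_normalizer_of_forall fun x hx => Subgroup.mem_inf.2
      ⟨(Subgroup.mem_normalizer_iff.1 (hHQ hh) x).1 hx.1,
        mul_mem (mul_mem (hHE hh) hx.2) (inv_mem (hHE hh))⟩
    exact ⟨h1, fun h hh => mem_normalizer_of_forall fun y hy => Subgroup.mem_inf.2
      ⟨(Subgroup.mem_normalizer_iff.1 (hHQ hh) y).1 hy.1,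
        mul_mem (mul_mem (h1 hh) hy.2) (inv_mem (h1 hh))⟩⟩
  obtain ⟨hBX, hBY⟩ := hnor B hBQ hBE
  obtain ⟨hEX, hEY⟩ := hnor E hEQ Subgroup.le_normalizer
  let K : Subgroup G :=
    { carrier := {g | g ∈ Subgroup.normalizer (X : Set G) ∧ g ∈ Subgroup.normalizer (Y : Set G) ∧
        ∀ y ∈ Y, ⁅g, y⁆ ∈ X}
      one_mem' := ⟨one_mem _, one_mem _, fun y _ => by rw [commutatorElement_one_left]; exact one_mem _⟩
      mul_mem' := fun {g h} hg hh => ⟨mul_mem hg.1 hh.1, mul_mem hg.2.1 hh.2.1, fun y hy => by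
        rw [show ⁅g * h, y⁆ = g * ⁅h, y⁆ * g⁻¹ * ⁅g, y⁆ by simp only [commutatorElement_def]; group]
        exact mul_mem ((Subgroup.mem_normalizer_iff.1 hg.1 _).1 (hh.2.2 y hy)) (hg.2.2 y hy)⟩
      inv_mem' := fun {g} hg => ⟨inv_mem hg.1, inv_mem hg.2.1, fun y hy => by
        rw [show ⁅g⁻¹, y⁆ = ⁅g, g⁻¹ * y * g⁆⁻¹ by simp only [commutatorElement_def]; group]
        exact inv_mem (hg.2.2 _ ((Subgroup.mem_normalizer_iff''.1 hg.2.1 y).1 hy))⟩ }
  have hBK : B ≤ K := fun b hb => ⟨hBX hb, hBY hb, fun y hy => by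
    have h1 : ⁅b, y⁆ ∈ Q := by
      rw [commutatorElement_def]; exact mul_mem ((Subgroup.mem_normalizer_iff.1 (hBQ hb) y).1 hy.1) (inv_mem hy.1)
    have h2 : ⁅b, y⁆ ∈ B := by
      rw [show ⁅b, y⁆ = b * (y * b⁻¹ * y⁻¹) by simp only [commutatorElement_def]; group]
      exact mul_mem hb ((Subgroup.mem_normalizer_iff.1 (hQB hy.1) _).1 (inv_mem hb))
    exact ⟨h1, hBE h2⟩⟩
  have hEK : E ≤ K := by
    rw [← hcomm, Subgroup.commutator_le]
    intro e he b hb
    rw [commutatorElement_def]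
    refine mul_mem ⟨mul_mem (mul_mem (hEX he) (hBX hb)) (inv_mem (hEX he)),
      mul_mem (mul_mem (hEY he) (hBY hb)) (inv_mem (hEY he)), fun y hy => ?_⟩ (inv_mem (hBK hb))
    rw [show ⁅e * b * e⁻¹, y⁆ = e * ⁅b, e⁻¹ * y * e⁆ * e⁻¹ by simp only [commutatorElement_def]; group]
    exact (Subgroup.mem_normalizer_iff.1 (hEX he) _).1
      ((hBK hb).2.2 _ ((Subgroup.mem_normalizer_iff''.1 (hEY he) y).1 hy))
  refine hXY.not_ge fun y hy => ⟨hy.1, ?_⟩
  have key : ∀ e ∈ E, (orderOf e).Coprime p → ⁅y, e⁆ ∈ E := by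
    intro e he heo
    have hYp : IsPGroup p Y := hQ.to_le inf_le_left
    have h1 : ⁅Y, Subgroup.zpowers e⁆ ≤ X := Subgroup.commutator_le.2 fun a ha u hu => by
      have h2 := inv_mem ((hEK ((Subgroup.zpowers_le.2 he) hu)).2.2 a ha)
      rwa [commutatorElement_inv] at h2
    have h2 : (Nat.card (Subgroup.zpowers e)).Coprime (Nat.card Y) := by
      obtain ⟨k, hk⟩ := IsPGroup.iff_card.1 hYp
      rw [Nat.card_zpowers, hk]; exact heo.pow_right k
    have h3 := Coprime.commutator_commutator_eq ((Subgroup.zpowers_le.2 he).trans hEY) h2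
      (Or.inl (Coprime.isSolvable_zpowers e))
    have h4 : ⁅⁅Y, Subgroup.zpowers e⁆, Subgroup.zpowers e⁆ ≤ E :=
      (Subgroup.commutator_mono h1 (Subgroup.zpowers_le.2 he)).trans
        (Subgroup.le_normalizer_iff_commutator_le_right.1 inf_le_right)
    rw [h3] at h4
    exact h4 (Subgroup.commutator_mem_commutator hy (Subgroup.mem_zpowers e))
  refine mem_normalizer_of_forall fun x hx => ?_
  have hle : E ≤ E.comap (MulAut.conj y).toMonoidHom := by
    calc E = Subgroup.closure {g | g ∈ E ∧ (orderOf g).Coprime p} := by rw [← pResidualOf_eq_closure, hres]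
      _ ≤ _ := (Subgroup.closure_le _).2 fun e he => by
        show y * e * y⁻¹ ∈ E
        rw [show y * e * y⁻¹ = ⁅y, e⁆ * e by simp only [commutatorElement_def]; group]
        exact mul_mem (key e he.1 he.2) he.1
  exact hle hx

/-- `O^p(E O_p(G)) = E`. -/
theorem pResidualOf_sup (T : Sylow p G) (hres : Cfsg.pResidualOf p E = E)
    (hcomm : ⁅E, Cfsg.baumannSubgroupOf p (T : Subgroup G)⁆ = E) :
    Cfsg.pResidualOf p (E ⊔ Cfsg.pCore p G) = E := by
  refine le_antisymm ?_ (hres.ge.trans (CharP.map_pResidual_subtype_mono le_sup_left))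
  rw [pResidualOf_eq_closure, Subgroup.closure_le]
  rintro x ⟨hx, hxo⟩
  refine mem_of_coprime (Cores.pCore_isPGroup p) (le_normalizer_block T hres hcomm (Cores.pCore_isPGroup p) ?_ ?_)
    hx hxo <;> exact Subgroup.le_normalizer_of_normal

end Cfsg.Agent.Lib.Baumann
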