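import Cfsg.Agent.Lib.CharP.SL2FixedPoint
import Mathlib

/-!
# Irreducibility of the natural modules occurring in blocks

The derived group of `SL₂(q)` on `F²` and the alternating group of odd degree on the even-weight vectors.

Owner: helper19.
-/

set_option autoImplicit false

open Matrix
open scoped commutatorElement

namespace Cfsg.Agent.Lib.Baumann

open CharP.SL2Fix

variable {F : Type*} [Field F]

theorem up_neg_eq (s : F) : (up s)⁻¹ = up (-s) := by
  apply inv_eq_of_mul_eq_one_right
  apply ext4 <;> simp [mul00]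

theorem lo_neg_eq (s : F) : (lo s)⁻¹ = lo (-s) := by
  apply inv_eq_of_mul_eq_one_right
  apply ext4 <;> simp [mul00]

theorem dg_inv_eq (a : F) (ha : a ≠ 0) : (dg a ha)⁻¹ = dg a⁻¹ (inv_ne_zero ha) := by
  apply inv_eq_of_mul_eq_one_right
  apply ext4 <;> simp [mul00, ha]

theorem comm_dg_up (a : F) (ha : a ≠ 0) (t : F) : ⁅dg a ha, up t⁆ = up ((a * a - 1) * t) := by
  rw [commutatorElement_def, dg_inv_eq, up_neg_eq]
  apply ext4 <;> simp [mul00, ha]
  ring

theorem comm_dg_lo (a : F) (ha : a ≠ 0) (t : F) : ⁅dg a ha, lo t⁆ = lo ((a⁻¹ * a⁻¹ - 1) * t) := by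
  rw [commutatorElement_def, dg_inv_eq, lo_neg_eq]
  apply ext4 <;> simp [mul00, ha]
  ring

/-- The natural module of the derived group of `SL₂(F)` is irreducible. -/
theorem irreducible_commutator_SL2 [Fintype F] (U : AddSubgroup (Fin 2 → F))
    (hU : ∀ g ∈ commutator (Matrix.SpecialLinearGroup (Fin 2) F), ∀ v ∈ U,
      (g : Matrix (Fin 2) (Fin 2) F).mulVec v ∈ U) : U = ⊥ ∨ ∀ v, v ∈ U := by
  classical
  rcases eq_or_ne U ⊥ with h | h
  · exact Or.inl h
  obtain ⟨v, hv, hv0⟩ : ∃ v ∈ U, v ≠ 0 := by
    by_contra hall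
    push Not at hall
    exact h ((AddSubgroup.eq_bot_iff_forall U).2 hall)
  refine Or.inr ?_
  by_cases hbig : ∃ a : F, a ≠ 0 ∧ a * a ≠ 1
  · obtain ⟨a, ha, ha2⟩ := hbig
    have hup : ∀ s, up s ∈ commutator (Matrix.SpecialLinearGroup (Fin 2) F) := fun s => by
      rw [show s = (a * a - 1) * (s / (a * a - 1)) from (mul_div_cancel₀ s (sub_ne_zero.2 ha2)).symm, ← comm_dg_up a ha]
      exact Subgroup.commutator_mem_commutator (Subgroup.mem_top _) (Subgroup.mem_top _)
    have hlo : ∀ s, lo s ∈ commutator (Matrix.SpecialLinearGroup (Fin 2) F) := fun s => by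
      have hne : a⁻¹ * a⁻¹ - 1 ≠ 0 := sub_ne_zero.2 fun e => ha2 (by
        field_simp at e; linear_combination -e)
      rw [show s = (a⁻¹ * a⁻¹ - 1) * (s / (a⁻¹ * a⁻¹ - 1)) from (mul_div_cancel₀ s hne).symm, ← comm_dg_lo a ha]
      exact Subgroup.commutator_mem_commutator (Subgroup.mem_top _) (Subgroup.mem_top _)
    have hx : ∀ w ∈ U, w 1 ≠ 0 → ∀ x : F, ![x, 0] ∈ U := fun w hw hw1 x => by
      have h1 := U.sub_mem (hU _ (hup (x / w 1)) w hw) hw
      convert h1 using 1
      ext i
      fin_cases i <;> simp [Matrix.mulVec, dotProduct, Fin.sum_univ_two] <;> field_simp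
    have hy : ∀ w ∈ U, w 0 ≠ 0 → ∀ y : F, ![0, y] ∈ U := fun w hw hw0 y => by
      have h1 := U.sub_mem (hU _ (hlo (y / w 0)) w hw) hw
      convert h1 using 1
      ext i
      fin_cases i <;> simp [Matrix.mulVec, dotProduct, Fin.sum_univ_two] <;> field_simp
    have hboth : (∀ x : F, ![x, 0] ∈ U) ∧ ∀ y : F, ![0, y] ∈ U := by
      rcases ne_or_eq (v 1) 0 with h1 | h1
      · exact ⟨hx v hv h1, hy _ (hx v hv h1 1) (by simp)⟩
      · have h0 : v 0 ≠ 0 := fun e => hv0 (by ext i; fin_cases i <;> assumption)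
        exact ⟨hx _ (hy v hv h0 1) (by simp), hy v hv h0⟩
    intro w
    have h1 := U.add_mem (hboth.1 (w 0)) (hboth.2 (w 1))
    convert h1 using 1
    ext i
    fin_cases i <;> simp
  · push Not at hbig
    -- at most three elements
    have hsmall : Fintype.card F ≤ 3 := by
      rw [← Finset.card_univ]
      refine (Finset.card_le_card (show (Finset.univ : Finset F) ⊆ {0, 1, -1} from fun a _ => ?_)).trans
        Finset.card_le_three
      simp only [Finset.mem_insert, Finset.mem_singleton]
      rcases eq_or_ne a 0 with rfl | ha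
      · simp
      · rcases mul_self_eq_one_iff.1 (hbig a ha) with e | e <;> simp [e]
    have hprime : (Fintype.card F).Prime := by
      have h2 : 1 < Fintype.card F := Fintype.one_lt_card
      interval_cases Fintype.card F <;> norm_num
    haveI := Fact.mk hprime
    have hM : ⁅up (1 : F), lo 1⁆ ∈ commutator (Matrix.SpecialLinearGroup (Fin 2) F) :=
      Subgroup.commutator_mem_commutator (Subgroup.mem_top _) (Subgroup.mem_top _)
    have hMv : ((⁅up (1 : F), lo 1⁆ : Matrix.SpecialLinearGroup (Fin 2) F) : Matrix (Fin 2) (Fin 2) F).mulVec v =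
        ![3 * v 0 - v 1, v 0] := by
      rw [commutatorElement_def, up_neg_eq, lo_neg_eq]
      ext i
      fin_cases i <;> simp [Matrix.mulVec, dotProduct, Fin.sum_univ_two, Matrix.mul_apply] <;> ring
    have hcardV : Nat.card (Fin 2 → F) = Fintype.card F ^ 2 := by
      rw [Nat.card_eq_fintype_card, Fintype.card_pi, Finset.prod_const, Finset.card_univ, Fintype.card_fin]
    obtain ⟨k, hk, hcard⟩ : ∃ k ≤ 2, Nat.card U = Fintype.card F ^ k :=
      (Nat.dvd_prime_pow hprime).1 (hcardV ▸ AddSubgroup.card_addSubgroup_dvd_card U)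
    rcases hk.lt_or_eq with hk2 | hk2
    · exfalso
      have hcyc : U = AddSubgroup.zmultiples v := by
        refine (AddSubgroup.eq_of_le_of_card_ge ((AddSubgroup.zmultiples_le (H := U)).2 hv) ?_).symm
        have h1 : 1 < Nat.card (AddSubgroup.zmultiples v) :=
          (AddSubgroup.one_lt_card_iff_ne_bot _).2 fun e => hv0 (AddSubgroup.zmultiples_eq_bot.1 e)
        obtain ⟨j, hj, hcj⟩ := (Nat.dvd_prime_pow hprime).1 (hcardV ▸ AddSubgroup.card_addSubgroup_dvd_card
          (AddSubgroup.zmultiples v))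
        rw [hcard, hcj]
        refine Nat.pow_le_pow_right hprime.pos ?_
        rcases Nat.eq_zero_or_pos j with rfl | hj0
        · rw [hcj, pow_zero] at h1; omega
        · omega
      obtain ⟨c, hc⟩ := AddSubgroup.mem_zmultiples_iff.1 (hcyc.le (hU _ hM v hv))
      rw [hMv] at hc
      have h0 : (c : F) * v 0 = 3 * v 0 - v 1 := by simpa using congrFun hc 0
      have h1 : (c : F) * v 1 = v 0 := by simpa using congrFun hc 1
      set d := (c : F)
      have hv1 : v 1 ≠ 0 := fun e => hv0 (by
        ext i; fin_cases i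
        · simpa [e] using h1.symm
        · simpa using e)
      have hpoly : d * d - 3 * d + 1 = 0 := mul_left_cancel₀ hv1 (by linear_combination h0 + (d - 3) * h1)
      have hfr : d ^ Fintype.card F = d := FiniteField.pow_card d
      have hchar : ((Fintype.card F : ℕ) : F) = 0 := Nat.cast_card_eq_zero F
      have h2 : 1 < Fintype.card F := Fintype.one_lt_card
      interval_cases hcF : Fintype.card F
      · norm_num at hchar
        exact one_ne_zero (α := F) (by linear_combination hpoly - hfr + d * hchar)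
      · norm_num at hchar
        have hd : d = 0 := by
          have h22 : (2 : F) ≠ 0 := fun e => one_ne_zero (α := F) (by linear_combination hchar - e)
          refine (mul_eq_zero.1 (show (2 : F) * d = 0 by
            linear_combination d * hpoly - hfr + (d * d) * hchar)).resolve_left h22
        rw [hd] at hpoly
        simp at hpoly
    · intro w
      rw [show U = ⊤ from AddSubgroup.eq_top_of_card_eq U (by rw [hcard, hk2, hcardV])]
      trivial

/-- The even-weight module of the alternating group of odd degree is irreducible. -/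
theorem irreducible_alternating {n : ℕ} (hodd : Odd n) (hn : 3 ≤ n) (U : AddSubgroup (Fin n → ZMod 2))
    (hsum : ∀ v ∈ U, ∑ i, v i = 0)
    (hU : ∀ σ ∈ alternatingGroup (Fin n), ∀ v ∈ U, (fun i => v (σ⁻¹ i)) ∈ U) :
    U = ⊥ ∨ ∀ v : Fin n → ZMod 2, ∑ i, v i = 0 → v ∈ U := by
  classical
  rcases eq_or_ne U ⊥ with h | h
  · exact Or.inl h
  obtain ⟨v, hv, hv0⟩ : ∃ v ∈ U, v ≠ 0 := by
    by_contra hall
    push Not at hall
    exact h ((AddSubgroup.eq_bot_iff_forall U).2 hall)
  have h01 : ∀ x : ZMod 2, x = 0 ∨ x = 1 := by decide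
  obtain ⟨i, hi⟩ : ∃ i, v i = 1 := by
    by_contra hall
    push Not at hall
    exact hv0 (funext fun i => (h01 _).resolve_right (hall i))
  obtain ⟨j, hj⟩ : ∃ j, v j = 0 := by
    by_contra hall
    push Not at hall
    have h2 := hsum v hv
    rw [Finset.sum_congr rfl fun i _ => (h01 (v i)).resolve_left (hall i), Finset.sum_const, Finset.card_univ,
      Fintype.card_fin, nsmul_one, ZMod.natCast_eq_zero_iff_even] at h2
    exact (Nat.not_odd_iff_even.2 h2) hodd
  have hthree : ∀ a b c : Fin n, a ≠ b → a ≠ c → b ≠ c →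
      Equiv.swap a b * Equiv.swap a c ∈ alternatingGroup (Fin n) := fun a b c hab hac _ => by
    rw [Equiv.Perm.mem_alternatingGroup, map_mul, Equiv.Perm.sign_swap hab, Equiv.Perm.sign_swap hac]
    rfl
  have hfree : ∀ a b : Fin n, ∃ c, c ≠ a ∧ c ≠ b := fun a b => by
    obtain ⟨c, hc⟩ : ∃ c, c ∉ ({a, b} : Finset (Fin n)) := by
      by_contra hall
      push Not at hall
      have h2 := Finset.card_le_card (show (Finset.univ : Finset (Fin n)) ⊆ {a, b} from fun c _ => hall c)
      rw [Finset.card_univ, Fintype.card_fin] at h2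
      have h3 : ({a, b} : Finset (Fin n)).card ≤ 2 := Finset.card_le_two
      omega
    simp only [Finset.mem_insert, Finset.mem_singleton, not_or] at hc
    exact ⟨c, hc⟩
  have hij : i ≠ j := fun e => by rw [e, hj] at hi; exact zero_ne_one hi
  obtain ⟨k, hki, hkj⟩ := hfree i j
  set e : Fin n → Fin n → ZMod 2 := fun a => Pi.single a 1 with he
  -- a vector of weight two
  obtain ⟨a, b, hab, habU⟩ : ∃ a b, a ≠ b ∧ e a + e b ∈ U := by
    set σ : Equiv.Perm (Fin n) := Equiv.swap i k * Equiv.swap i j
    have hσU := hU σ (hthree i k j hki.symm hij hkj) v hv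
    have hw := U.add_mem hv hσU
    set w := v + fun x => v (σ⁻¹ x) with hw'
    have hout : ∀ x, x ≠ i → x ≠ j → x ≠ k → w x = 0 := fun x h1 h2 h3 => by
      simp only [hw', σ, Pi.add_apply, _root_.mul_inv_rev, Equiv.swap_inv, Equiv.Perm.mul_apply,
        Equiv.swap_apply_of_ne_of_ne h1 h3, Equiv.swap_apply_of_ne_of_ne h1 h2]
      exact CharTwo.add_self_eq_zero _
    have hwsum := hsum w hw
    rw [← Finset.sum_subset (Finset.subset_univ ({i, j, k} : Finset (Fin n))) (fun x _ hx => by
      simp only [Finset.mem_insert, Finset.mem_singleton, not_or] at hx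
      exact hout x hx.1 hx.2.1 hx.2.2), Finset.sum_insert (by simp [hij, hki.symm]),
      Finset.sum_pair hkj.symm] at hwsum
    have hwe : w = w i • e i + (w j • e j + w k • e k) := by
      ext x
      rcases eq_or_ne x i with rfl | hxi
      · simp [e, hij, hki.symm]
      rcases eq_or_ne x j with rfl | hxj
      · simp [e, hij.symm, hkj.symm]
      rcases eq_or_ne x k with rfl | hxk
      · simp [e, hki, hkj]
      · simp [e, hout x hxi hxj hxk, hxi, hxj, hxk]
    have hwne : w i ≠ 0 ∨ w j ≠ 0 ∨ w k ≠ 0 := by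
      have ej : σ⁻¹ j = i := by
        simp [σ, _root_.mul_inv_rev, Equiv.swap_inv, Equiv.swap_apply_of_ne_of_ne hij.symm hkj.symm]
      right; left
      show v j + v (σ⁻¹ j) ≠ 0
      rw [ej, hi, hj]
      decide
    rcases h01 (w i) with e1 | e1 <;> rcases h01 (w j) with e2 | e2 <;> rcases h01 (w k) with e3 | e3 <;>
      rw [e1, e2, e3] at hwsum hwe <;> simp only [zero_smul, one_smul, zero_add, add_zero] at hwe
    · simp [e1, e2, e3] at hwne
    · exact absurd hwsum (by decide)
    · exact absurd hwsum (by decide)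
    · exact ⟨j, k, hkj.symm, hwe ▸ hw⟩
    · exact absurd hwsum (by decide)
    · exact ⟨i, k, hki.symm, hwe ▸ hw⟩
    · exact ⟨i, j, hij, hwe ▸ hw⟩
    · exact absurd hwsum (by decide)
  -- move it
  have hmove : ∀ a b c : Fin n, a ≠ b → c ≠ a → c ≠ b → e a + e b ∈ U → e a + e c ∈ U := by
    intro a b c hab hca hcb hm
    have h1 := hU _ (hthree a b c hab hca.symm hcb.symm) _ (U.add_mem hm (U.zero_mem))
    have key : (fun x => (e a + e b + 0 : Fin n → ZMod 2) ((Equiv.swap a b * Equiv.swap a c)⁻¹ x)) = e a + e c := by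
      funext x
      simp only [add_zero, _root_.mul_inv_rev, Equiv.swap_inv, Equiv.Perm.mul_apply, Pi.add_apply, e]
      rcases eq_or_ne x a with rfl | hxa
      · simp [Equiv.swap_apply_of_ne_of_ne hab.symm hcb.symm, hab, hab.symm, hca, hca.symm]
      rcases eq_or_ne x c with rfl | hxc
      · simp [Equiv.swap_apply_of_ne_of_ne hca hcb, hca, hca.symm, hab, hab.symm]
      rcases eq_or_ne x b with rfl | hxb
      · simp [hab, hab.symm, hca, hca.symm, hcb, hcb.symm]
      · simp [Equiv.swap_apply_of_ne_of_ne hxa hxc, Equiv.swap_apply_of_ne_of_ne hxa hxb, hxa, hxb, hxc]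
    exact key ▸ h1
  have hall : ∀ c, c ≠ a → e a + e c ∈ U := fun c hca => by
    rcases eq_or_ne c b with rfl | hcb
    · exact habU
    · exact hmove a b c hab hca hcb habU
  refine Or.inr fun w hw => ?_
  have hexp : w = ∑ c, w c • (e a + e c) := by
    simp only [smul_add, Finset.sum_add_distrib, ← Finset.sum_smul, hw, zero_smul, zero_add]
    ext x
    simp [e, Finset.sum_apply, Pi.single_apply]
  rw [hexp]
  refine U.sum_mem fun c _ => ?_
  rcases h01 (w c) with hc | hc <;> rw [hc]
  · simp
  · rw [one_smul]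
    rcases eq_or_ne c a with rfl | hca
    · rw [show e c + e c = 0 from funext fun x => CharTwo.add_self_eq_zero _]
      exact U.zero_mem
    · exact hall c hca

end Cfsg.Agent.Lib.Baumann
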