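import Cfsg.Agent.Lib.LAEven57.PushingUp.Main
import Cfsg.Agent.Lib.ZJ.AbelianJ
import Mathlib.GroupTheory.Transfer

/-!
Baumann's rank one pushing-up: the centre, `[ZJ(S), S]` and the centralizer of `ZJ(S)`.
-/

set_option autoImplicit false
set_option linter.style.haveILetI false

open Cfsg
open scoped Pointwise commutatorElement

namespace Cfsg.Agent.Lib.Baumann.PushCenter

open Cfsg.Agent.Lib.LA5.Basic
open Cfsg.Agent.Lib.LAEven57.PushingUp
open Cfsg.Agent.Lib.ZJ

variable {G : Type*} [Group G] [Finite G] {p : ℕ} [hp : Fact p.Prime] {S : Subgroup G}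

omit [Finite G] in
theorem mem_sectionKernel {K N : Subgroup G} [N.Normal] {g : G} :
    g ∈ sectionKernel K N ↔ ∀ k ∈ K, g * k * g⁻¹ * k⁻¹ ∈ N := by
  rw [sectionKernel, Subgroup.mem_comap, Subgroup.mem_centralizer_iff]
  constructor
  · intro h k hk
    refine (QuotientGroup.eq_one_iff _).mp ?_
    show QuotientGroup.mk' N (g * k * g⁻¹ * k⁻¹) = 1
    rw [map_mul, map_mul, map_mul, map_inv, map_inv, ← h _ ⟨k, hk, rfl⟩]; group
  · rintro h _ ⟨k, hk, rfl⟩
    have h1 : QuotientGroup.mk' N (g * k * g⁻¹ * k⁻¹) = 1 := (QuotientGroup.eq_one_iff _).mpr (h k hk)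
    rw [map_mul, map_mul, map_mul, map_inv, map_inv] at h1
    exact ((mul_inv_eq_iff_eq_mul.mp (mul_inv_eq_one.mp h1))).symm

omit [Finite G] in
theorem sectionKernel_normal (K N : Subgroup G) [K.Normal] [N.Normal] : (sectionKernel K N).Normal := by
  haveI : (K.map (QuotientGroup.mk' N)).Normal :=
    (inferInstance : K.Normal).map _ (QuotientGroup.mk'_surjective N)
  exact Subgroup.Normal.comap inferInstance _

omit [Finite G] in
theorem le_center_of_cz {R L H : Subgroup G} (hLH : L ⊔ H = ⊤) (h1 : R ≤ Subgroup.centralizer (L : Set G))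
    (h2 : R ≤ Subgroup.centralizer (H : Set G)) : R ≤ Subgroup.center G := by
  rw [← Subgroup.centralizer_univ, ← Subgroup.coe_top, ← hLH, centralizer_sup]
  exact le_inf h1 h2

omit [Finite G] in
theorem comm_of_mem_cz {H : Subgroup G} {x h : G} (hx : x ∈ Subgroup.centralizer (H : Set G)) (hh : h ∈ H) :
    h * x = x * h :=
  Subgroup.mem_centralizer_iff.mp hx h hh

omit [Finite G] in
theorem conj_of_mem_cz {H : Subgroup G} {x h : G} (hx : x ∈ Subgroup.centralizer (H : Set G)) (hh : h ∈ H) :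
    x * h * x⁻¹ = h ∧ h * x * h⁻¹ = x :=
  ⟨by rw [← comm_of_mem_cz hx hh]; group, by rw [comm_of_mem_cz hx hh]; group⟩

theorem mem_normalizer_of_conj_mem {H : Subgroup G} {g : G} (h : ∀ x ∈ H, g * x * g⁻¹ ∈ H) :
    g ∈ Subgroup.normalizer (H : Set G) :=
  mem_normalizer_iff_conj_eq.mpr (Subgroup.eq_of_le_of_card_ge
    (by rintro _ ⟨x, hx, rfl⟩; exact h x hx) (card_conj g H).ge)

variable {M : Subgroup G} {F : Type} [Field F] [Fintype F] {n : ℕ} {π : G →* PSL2 F}

/-- A normal subgroup meeting `S` outside `O_p(G)` covers `G` together with `S`. -/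
theorem sup_eq_top (hS : ∃ P : Sylow p G, (P : Subgroup G) = S) (h : IsData p S M F n π) (L : Subgroup G)
    [L.Normal] (hne : ¬ L ⊓ S ≤ pCore p G) : L ⊔ S = ⊤ := by
  by_contra hne'
  exact hne (normal_inf_le_pCore hS h.1 h.2.2.1 (le_sup_left.trans (coatom_eq h.2.2.1 le_sup_right hne')))

theorem conj_not_le (hS : ∃ P : Sylow p G, (P : Subgroup G) = S) (h : IsData p S M F n π) {g : G} (hg : g ∉ M) :
    S ⊔ S.map (MulAut.conj g).toMonoidHom = ⊤ := by
  by_contra hne
  have hle := coatom_eq h.2.2.1 le_sup_left hne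
  obtain ⟨l, hl, hlg⟩ := conj_eq_of_sylow hS h.2.1 (le_sup_right.trans hle)
  exact hg (by simpa using M.mul_mem (M.inv_mem hl) (normalizer_le h hlg))

/-- `S / O_p(G)` has no proper nontrivial subgroups over a prime field. -/
theorem eq_of_not_le (h : IsData p S M F n π) (hn : n = 1) {H : Subgroup G} (hPH : pCore p G ≤ H)
    (hHS : H ≤ S) (hne : ¬ H ≤ pCore p G) : H = S := by
  obtain ⟨d, hd⟩ := Subgroup.card_dvd_of_le hPH
  have h1 := Subgroup.card_dvd_of_le hHS
  have h2 := card_S h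
  rw [hn, pow_one] at h2
  rw [hd, h2, mul_comm p] at h1
  rcases (Nat.dvd_prime hp.out).mp (Nat.dvd_of_mul_dvd_mul_left Nat.card_pos h1) with rfl | hdp
  · exact absurd (Subgroup.eq_of_le_of_card_ge hPH (by rw [hd, mul_one])).ge hne
  · exact Subgroup.eq_of_le_of_card_ge hHS (by rw [hd, h2, hdp, mul_comm])

/-- The case of a prime field. -/
theorem key_one (hS : ∃ P : Sylow p G, (P : Subgroup G) = S) (h : IsData p S M F n π) (hn : n = 1)
    {A J Z W : Subgroup G} [W.Normal] (hZn : ¬ S ⊓ Subgroup.centralizer (S : Set G) ≤ Subgroup.center G)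
    (hZW : S ⊓ Subgroup.centralizer (S : Set G) ≤ W) (hWP : W ≤ pCore p G)
    (hPW : pCore p G ≤ Subgroup.centralizer (W : Set G))
    (hAS : A ≤ S) (hAP : ¬ A ≤ pCore p G) (hAJ : A ≤ J) (hJS : J ≤ S)
    (hJZ : J ≤ Subgroup.centralizer (Z : Set G))
    (hAW : W ⊓ Subgroup.centralizer (A : Set G) = A ⊓ W)
    (hcard : Nat.card ↥A * Nat.card ↥(A ⊓ W) = Nat.card ↥(A ⊓ pCore p G) * Nat.card ↥W)
    [(Z ⊔ W).Normal]
    (hYW : ∀ u ∈ pCore p G, ∀ z ∈ Z, u * z * u⁻¹ * z⁻¹ ∈ W → u * z * u⁻¹ * z⁻¹ ∈ Subgroup.center G) :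
    ∀ u ∈ Subgroup.normalClosure (J : Set G), u ∈ pCore p G → ∀ z ∈ Z, u * z = z * u := by
  set P := pCore p G with hP
  obtain ⟨S₀, hS₀⟩ := id hS
  have hSp : IsPGroup p ↥S := hS₀ ▸ S₀.2
  have hPS : P ≤ S := hS₀ ▸ Cfsg.Agent.Lib.Cores.pCore_le_sylow S₀
  obtain ⟨a, haA, haP⟩ := SetLike.not_le_iff_exists.mp hAP
  have haS : a ∈ S := hAS haA
  have hgen : Subgroup.zpowers a ⊔ P = S := eq_of_not_le h hn le_sup_right
    (sup_le (Subgroup.zpowers_le.mpr haS) hPS)
    (fun hle => haP (hle (Subgroup.mem_sup_left (Subgroup.mem_zpowers a))))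
  have hAPS : A ⊔ P = S := eq_of_not_le h hn le_sup_right (sup_le hAS hPS) (fun hle => hAP (le_sup_left.trans hle))
  have hidx : Nat.card ↥W = p * Nat.card ↥(A ⊓ W) := by
    have h1 := card_sup_mul_inf (A := A) (B := P) (fun x _ => by
      rw [Subgroup.normalizer_eq_top_iff.mpr (inferInstance : P.Normal)]; exact Subgroup.mem_top x)
    rw [hAPS, card_S h, hn, pow_one] at h1
    have h2 : Nat.card ↥A = p * Nat.card ↥(A ⊓ P) := by
      refine Nat.eq_of_mul_eq_mul_right (m := Nat.card ↥P) Nat.card_pos ?_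
      rw [← h1]; ring
    rw [h2] at hcard
    refine Nat.eq_of_mul_eq_mul_left (n := Nat.card ↥(A ⊓ P)) Nat.card_pos ?_
    rw [← hcard]; ring
  have hWW : ∀ {x y : G}, x ∈ W → y ∈ W → x * y = y * x := fun hx hy => (comm_of_mem_cz (hPW (hWP hx)) hy).symm
  have hconjW : ∀ {w : G} (g : G), w ∈ W → g * w * g⁻¹ ∈ W := fun g hw => (inferInstance : W.Normal).conj_mem _ hw g
  have hcomW : ∀ {w : G}, w ∈ W → a * w * a⁻¹ * w⁻¹ ∈ W := fun hw => W.mul_mem (hconjW a hw) (W.inv_mem hw)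
  let φ : ↥W →* G := MonoidHom.mk' (fun w => a * (w : G) * a⁻¹ * (w : G)⁻¹) fun w v => by
    show a * ((w : G) * v) * a⁻¹ * ((w : G) * v)⁻¹ = _
    calc a * ((w : G) * v) * a⁻¹ * ((w : G) * v)⁻¹
        = (a * w * a⁻¹) * ((a * v * a⁻¹ * (v : G)⁻¹) * (w : G)⁻¹) := by group
      _ = (a * w * a⁻¹) * ((w : G)⁻¹ * (a * v * a⁻¹ * (v : G)⁻¹)) := by
          rw [hWW (hcomW v.2) (W.inv_mem w.2)]
      _ = _ := by group
  have hφ : ∀ w : ↥W, φ w = a * (w : G) * a⁻¹ * (w : G)⁻¹ := fun w => rfl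
  set I := φ.range with hI
  have hIW : I ≤ W := by rintro _ ⟨w, rfl⟩; exact hcomW w.2
  have hker : φ.ker.map W.subtype = A ⊓ W := by
    apply le_antisymm
    · rintro _ ⟨w, hw, rfl⟩
      rw [← hAW]
      refine ⟨w.2, ?_⟩
      have hwa : a * (w : G) = (w : G) * a := mul_inv_eq_iff_eq_mul.mp (mul_inv_eq_one.mp hw)
      have hS' : S ≤ Subgroup.centralizer ({(w : G)} : Set G) := hgen ▸ sup_le
        (Subgroup.zpowers_le.mpr (Subgroup.mem_centralizer_singleton_iff.mpr hwa))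
        (fun x hx => Subgroup.mem_centralizer_singleton_iff.mpr (comm_of_mem_cz (hPW hx) w.2).symm)
      exact Subgroup.mem_centralizer_iff.mpr fun x hx => Subgroup.mem_centralizer_singleton_iff.mp (hS' (hAS hx))
    · intro x hx
      rw [← hAW] at hx
      refine ⟨⟨x, hx.1⟩, ?_, rfl⟩
      show a * x * a⁻¹ * x⁻¹ = 1
      rw [comm_of_mem_cz hx.2 haA]; group
  have hIcard : Nat.card ↥I = p := by
    have h1 := φ.ker.index_mul_card
    rw [Subgroup.index_ker, ← Subgroup.card_map_of_injective W.subtype_injective (K := φ.ker), hker, hidx] at h1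
    exact Nat.eq_of_mul_eq_mul_right Nat.card_pos h1
  have hIa : ∀ x ∈ I, a * x = x * a := by
    have hn1 : a ∈ Subgroup.normalizer (I : Set G) := mem_normalizer_of_conj_mem <| by
      rintro _ ⟨w, rfl⟩
      exact ⟨⟨_, hconjW a w.2⟩, by rw [hφ, hφ]; group⟩
    have h1 := modEq_card_inf_centralizer I hn1 (hSp.to_le (Subgroup.zpowers_le.mpr haS))
    rw [hIcard] at h1
    have h2 : p ∣ Nat.card ↥(I ⊓ Subgroup.centralizer ({a} : Set G)) := h1.dvd_iff dvd_rfl |>.mp dvd_rfl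
    have h3 := Subgroup.eq_of_le_of_card_ge (inf_le_left : I ⊓ Subgroup.centralizer ({a} : Set G) ≤ I)
      (by rw [hIcard]; exact Nat.le_of_dvd Nat.card_pos h2)
    intro x hx
    exact (Subgroup.mem_centralizer_singleton_iff.mp (h3.ge hx).2).symm
  have hIS : I ≤ Subgroup.centralizer (S : Set G) := by
    intro x hx
    rw [← hgen, centralizer_sup]
    refine ⟨?_, Subgroup.le_centralizer_iff.mp hPW (hIW hx)⟩
    refine Subgroup.mem_centralizer_iff.mpr ?_
    rintro _ ⟨k, rfl⟩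
    exact ((show Commute a x from hIa x hx).zpow_left k).eq
  by_cases hIc : I ≤ Subgroup.center G
  · exfalso
    haveI : (W ⊓ Subgroup.center G).Normal := inferInstance
    haveI := sectionKernel_normal W (W ⊓ Subgroup.center G)
    set D := sectionKernel W (W ⊓ Subgroup.center G) with hD
    have hSD : S ≤ D := hgen ▸ sup_le
      (Subgroup.zpowers_le.mpr (mem_sectionKernel.mpr fun k hk => ⟨hcomW hk, hIc ⟨⟨k, hk⟩, rfl⟩⟩))
      (fun x hx => mem_sectionKernel.mpr fun k hk => by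
        rw [(conj_of_mem_cz (hPW hx) hk).1, mul_inv_cancel]; exact Subgroup.one_mem _)
    have hDtop : D = ⊤ := by
      rw [← sup_eq_top hS h D (fun hle => haP (hle ⟨hSD haS, haS⟩)), sup_eq_left.mpr hSD]
    have hWp : IsPGroup p ↥W := (Cfsg.Agent.Lib.Cores.pCore_isPGroup p).to_le hWP
    haveI : (Subgroup.centralizer (W : Set G)).Normal := inferInstance
    have htop := normal_le_of_pprime hS ⊤ (Subgroup.centralizer (W : Set G)) fun d _ hd =>
      Subgroup.mem_centralizer_iff.mpr fun v hv => by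
        have h1 := mem_sectionKernel.mp (hDtop ▸ Subgroup.mem_top d : d ∈ D) v hv
        exact (commute_of_stabilizes hWp hd h1.1 (Subgroup.mem_center_iff.mp h1.2 d)).eq.symm
    exact hZn (le_center_of_cz (top_le_iff.mp htop) (hZW.trans (Subgroup.le_centralizer_iff.mp le_rfl))
      inf_le_right)
  have hI1 : I ⊓ Subgroup.center G = ⊥ := by
    by_contra hne
    have h1 := Subgroup.card_dvd_of_le (inf_le_left : I ⊓ Subgroup.center G ≤ I)
    rw [hIcard] at h1
    rcases (Nat.dvd_prime hp.out).mp h1 with e | e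
    · exact hne (Subgroup.card_eq_one.mp e)
    · exact hIc ((Subgroup.eq_of_le_of_card_ge inf_le_left (by rw [hIcard, e])).ge.trans inf_le_right)
  obtain ⟨g, hg⟩ : ∃ g : G, g ∉ M := by
    by_contra hc
    push Not at hc
    exact h.1.1 (eq_top_iff.mpr fun x _ => hc x)
  have hgtop := conj_not_le hS h hg
  set I' := I.map (MulAut.conj g).toMonoidHom with hI'
  have hI'W : I' ≤ W := by rintro _ ⟨x, hx, rfl⟩; exact hconjW g (hIW hx)
  set W₁ := I ⊔ I' with hW₁
  have hW₁W : W₁ ≤ W := sup_le hIW hI'W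
  have hW₁c : ∀ c ∈ W₁, c ∈ Subgroup.center G → c = 1 := by
    intro c hc hcc
    have hnorm : I ≤ Subgroup.normalizer (I' : Set G) := fun x hx => mem_normalizer_of_conj_mem fun y hy => by
      rw [hWW (hIW hx) (hI'W hy), mul_inv_cancel_right]; exact hy
    have hc' : c ∈ ((I : Set G) * (I' : Set G)) := by
      rw [← Subgroup.coe_mul_of_left_le_normalizer_right I I' hnorm]; exact hc
    obtain ⟨x, hx, y, hy, rfl⟩ := hc'
    have hy1 : y ∈ Subgroup.center G := by
      refine le_center_of_cz hgtop (R := Subgroup.zpowers y) (Subgroup.zpowers_le.mpr ?_)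
        (Subgroup.zpowers_le.mpr ?_) (Subgroup.mem_zpowers y)
      · have hye : y = x⁻¹ * (x * y) := by group
        rw [hye]
        exact Subgroup.mul_mem _ (Subgroup.inv_mem _ (hIS hx))
          (Subgroup.center_le_centralizer _ hcc)
      · rw [centralizer_conj]
        exact Subgroup.map_mono hIS hy
    obtain ⟨y', hy', rfl⟩ := hy
    have hy'c : y' ∈ Subgroup.center G := by
      have h1 := (inferInstance : (Subgroup.center G).Normal).conj_mem _ hy1 g⁻¹
      simpa [mul_assoc] using h1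
    have hy'1 : y' = 1 := (Subgroup.mem_bot (G := G)).mp (hI1 ▸ ⟨hy', hy'c⟩)
    subst hy'1
    simp only [map_one, mul_one] at hcc ⊢
    exact (Subgroup.mem_bot (G := G)).mp (hI1 ▸ ⟨hx, hcc⟩)
  have hSn : ∀ t : G, Subgroup.map (MulAut.conj t).toMonoidHom S ≤ Subgroup.normalizer (W₁ : Set G) ∨
      ¬ (I.map (MulAut.conj t).toMonoidHom ≤ W₁) := by
    intro t
    by_cases ht : I.map (MulAut.conj t).toMonoidHom ≤ W₁
    swap
    · exact Or.inr ht
    left
    rw [← hgen, Subgroup.map_sup, sup_le_iff, MonoidHom.map_zpowers, Subgroup.zpowers_le]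
    refine ⟨mem_normalizer_of_conj_mem fun x hx => ?_, fun y hy => mem_normalizer_of_conj_mem fun x hx => ?_⟩
    · have hxt : t⁻¹ * x * t ∈ W := by simpa using hconjW t⁻¹ (hW₁W hx)
      have h1 := W₁.mul_mem (ht ⟨_, ⟨⟨_, hxt⟩, rfl⟩, rfl⟩) hx
      rw [hφ] at h1
      have he : (MulAut.conj t).toMonoidHom a * x * ((MulAut.conj t).toMonoidHom a)⁻¹ =
          (MulAut.conj t).toMonoidHom (a * (t⁻¹ * x * t) * a⁻¹ * (t⁻¹ * x * t)⁻¹) * x := by
        simp only [MulEquiv.coe_toMonoidHom, MulAut.conj_apply]; group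
      rw [he]; exact h1
    · obtain ⟨y', hy', rfl⟩ := hy
      have hyP : (MulAut.conj t).toMonoidHom y' ∈ P := (inferInstance : P.Normal).conj_mem y' hy' t
      rw [(conj_of_mem_cz (hPW hyP) (hW₁W hx)).1]; exact hx
  haveI hW₁n : W₁.Normal := by
    refine Subgroup.normalizer_eq_top_iff.mp (top_le_iff.mp (hgtop ▸ sup_le ?_ ?_))
    · have h1 := (hSn 1).resolve_right (not_not_intro (by rw [map_conj_one]; exact le_sup_left))
      rwa [map_conj_one] at h1
    · exact (hSn g).resolve_right (not_not_intro le_sup_right)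
  haveI := sectionKernel_normal (Z ⊔ W) W₁
  set D₁ := sectionKernel (Z ⊔ W) W₁ with hD₁
  have hJD : J ≤ D₁ := by
    intro j hj
    have hSW : S ≤ sectionKernel W W₁ := hgen ▸ sup_le
      (Subgroup.zpowers_le.mpr (mem_sectionKernel.mpr fun k hk => Subgroup.mem_sup_left ⟨⟨k, hk⟩, rfl⟩))
      (fun x hx => mem_sectionKernel.mpr fun k hk => by
        rw [(conj_of_mem_cz (hPW hx) hk).1, mul_inv_cancel]; exact Subgroup.one_mem _)
    refine mem_sectionKernel.mpr fun x hx => ?_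
    have hnorm : Z ≤ Subgroup.normalizer (W : Set G) := fun y _ => by
      rw [Subgroup.normalizer_eq_top_iff.mpr (inferInstance : W.Normal)]; exact Subgroup.mem_top y
    have hx' : x ∈ ((Z : Set G) * (W : Set G)) := by
      rw [← Subgroup.coe_mul_of_left_le_normalizer_right Z W hnorm]; exact hx
    obtain ⟨z, hz, w, hw, rfl⟩ := hx'
    have h1 := mem_sectionKernel.mp (hSW (hJS hj)) w hw
    have he : j * (z * w) * j⁻¹ * (z * w)⁻¹ = z * (j * w * j⁻¹ * w⁻¹) * z⁻¹ := by
      calc j * (z * w) * j⁻¹ * (z * w)⁻¹ = (j * z * j⁻¹) * (j * w * j⁻¹ * w⁻¹) * z⁻¹ := by group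
        _ = _ := by rw [(conj_of_mem_cz (hJZ hj) hz).1]
    rw [he]
    exact hW₁n.conj_mem _ h1 z
  intro u hu huP z hz
  have h1 := mem_sectionKernel.mp (Subgroup.normalClosure_le_normal hJD hu) z (Subgroup.mem_sup_left hz)
  have h2 := hW₁c _ h1 (hYW u huP z hz (hW₁W h1))
  calc u * z = (u * z * u⁻¹ * z⁻¹) * (z * u) := by group
    _ = z * u := by rw [h2, one_mul]

/-- The case of a field of order at least four. -/
theorem key_big (hS : ∃ P : Sylow p G, (P : Subgroup G) = S) (h : IsData p S M F n π) (hn : 2 ≤ n)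
    {J C₀ : Subgroup G} [C₀.Normal] (hJS : J ≤ S)
    (hnJ : Subgroup.normalizer (S : Set G) ≤ Subgroup.normalizer (J : Set G))
    (hJP : J ⊔ pCore p G = S) (hJC : J ⊓ pCore p G ≤ C₀) (hN : Subgroup.normalClosure (J : Set G) ⊔ S = ⊤) :
    Subgroup.normalClosure (J : Set G) ⊓ pCore p G ≤ C₀ := by
  set P := pCore p G with hP
  set N := Subgroup.normalClosure (J : Set G) with hNdef
  obtain ⟨S₀, hS₀⟩ := id hS
  have hSp : IsPGroup p ↥S := hS₀ ▸ S₀.2
  have hPS : P ≤ S := hS₀ ▸ Cfsg.Agent.Lib.Cores.pCore_le_sylow S₀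
  have hPU : S.map π = U F := h.2.2.2.2.2.1
  have hk : S ⊓ π.ker = P := h.2.2.2.2.2.2.2
  have hJN : J ≤ N := Subgroup.subset_normalClosure
  have hUcomm : ∀ {s t : G}, s ∈ S → t ∈ S → π s * π t = π t * π s := by
    intro s t hs ht
    obtain ⟨x, hx⟩ : π s ∈ U F := hPU ▸ ⟨s, hs, rfl⟩
    obtain ⟨y, hy⟩ : π t ∈ U F := hPU ▸ ⟨t, ht, rfl⟩
    rw [← hx, ← hy, ← map_mul, ← map_mul, mul_comm]
  have hJker : ∀ {x : G}, x ∈ J → π x = 1 → x ∈ C₀ := fun hx he =>
    hJC ⟨hx, hk ▸ ⟨hJS hx, MonoidHom.mem_ker.mpr he⟩⟩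
  haveI := sectionKernel_normal P C₀
  have hNP : N ≤ sectionKernel P C₀ := by
    refine Subgroup.normalClosure_le_normal fun j hj => mem_sectionKernel.mpr fun u hu => hJC ⟨?_, ?_⟩
    · have huJ : u ∈ Subgroup.normalizer (J : Set G) := hnJ (Subgroup.le_normalizer (hPS hu))
      have h1 := (Subgroup.mem_normalizer_iff.mp huJ j⁻¹).mp (J.inv_mem hj)
      rw [show j * u * j⁻¹ * u⁻¹ = j * (u * j⁻¹ * u⁻¹) by group]
      exact J.mul_mem hj h1
    · exact P.mul_mem ((inferInstance : P.Normal).conj_mem u hu j) (P.inv_mem hu)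
  obtain ⟨a, ha, ha1⟩ : ∃ a : F, a ≠ 0 ∧ a ^ 2 ≠ 1 := by
    by_contra hcon
    push Not at hcon
    classical
    have hsub : ∀ c : F, c = 0 ∨ c = 1 ∨ c = -1 := fun c => by
      rcases eq_or_ne c 0 with h0 | h0
      · exact Or.inl h0
      · exact Or.inr (sq_eq_one_iff.mp (hcon c h0))
    have : Fintype.card F ≤ ({0, 1, -1} : Finset F).card :=
      Finset.card_le_card (s := Finset.univ) fun c _ => by simpa using hsub c
    rw [h.2.2.2.1] at this
    have h3 := Finset.card_le_three (a := (0 : F)) (b := 1) (c := -1)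
    have h4 : 4 ≤ p ^ n := le_trans (le_trans (by norm_num) (Nat.pow_le_pow_left hp.out.two_le 2))
      (Nat.pow_le_pow_right hp.out.pos hn)
    omega
  obtain ⟨g, hg, hgx⟩ := exists_torus hS h ha
  obtain ⟨m, hm, s, hs, hms⟩ : ∃ m ∈ N, ∃ s ∈ S, m * s = g := by
    have h1 : g ∈ ((N : Set G) * (S : Set G)) := by
      rw [← Subgroup.normal_mul, hN]; exact Subgroup.mem_top g
    exact h1
  have hme : m = g * s⁻¹ := by rw [← hms]; group
  have hmS : m ∈ Subgroup.normalizer (S : Set G) :=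
    hme ▸ Subgroup.mul_mem _ hg (Subgroup.inv_mem _ (Subgroup.le_normalizer hs))
  have hmx : ∀ t ∈ S, ∀ x : F, π t = uHom F (Multiplicative.ofAdd x) →
      π (m * t * m⁻¹) = uHom F (Multiplicative.ofAdd (a ^ 2 * x)) := by
    intro t ht x htx
    rw [show m * t * m⁻¹ = g * (s⁻¹ * t * s) * g⁻¹ by rw [hme]; group]
    refine hgx _ _ ?_
    rw [map_mul, map_mul, map_inv, mul_assoc, hUcomm ht hs, inv_mul_cancel_left, htx]
  have hperf : J ≤ ⁅N, N⁆ ⊔ C₀ := by
    intro j hj
    obtain ⟨x, hx⟩ : π j ∈ U F := hPU ▸ ⟨j, hJS hj, rfl⟩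
    have hne : a ^ 2 - 1 ≠ 0 := sub_ne_zero.mpr ha1
    set y : F := x.toAdd / (a ^ 2 - 1) with hy
    have hxy : a ^ 2 * y - y = x.toAdd := by
      rw [hy]; field_simp
    obtain ⟨t, htJ, hty⟩ : ∃ t ∈ J, π t = uHom F (Multiplicative.ofAdd y) := by
      have h1 : uHom F (Multiplicative.ofAdd y) ∈ (J ⊔ P).map π := by rw [hJP, hPU]; exact ⟨_, rfl⟩
      rwa [Subgroup.map_sup, (Subgroup.map_eq_bot_iff P).mpr (hk ▸ inf_le_right), sup_bot_eq] at h1
    have hc : m * t * m⁻¹ * t⁻¹ ∈ J :=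
      J.mul_mem ((Subgroup.mem_normalizer_iff.mp (hnJ hmS) t).mp htJ) (J.inv_mem htJ)
    have hπ : π (m * t * m⁻¹ * t⁻¹) = π j := by
      rw [map_mul, hmx t (hJS htJ) y hty, map_inv, hty, ← map_inv, ← map_mul, ← hx]
      congr 1
      rw [← ofAdd_neg, ← ofAdd_add, ← sub_eq_add_neg, hxy, ofAdd_toAdd]
    have h1 : (m * t * m⁻¹ * t⁻¹)⁻¹ * j ∈ C₀ :=
      hJker (J.mul_mem (J.inv_mem hc) hj) (by rw [map_mul, map_inv, hπ, inv_mul_cancel])
    have h2 : m * t * m⁻¹ * t⁻¹ ∈ ⁅N, N⁆ := Subgroup.commutator_mem_commutator hm (hJN htJ)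
    have := Subgroup.mul_mem (⁅N, N⁆ ⊔ C₀) (Subgroup.mem_sup_left h2) (Subgroup.mem_sup_right h1)
    rwa [mul_inv_cancel_left] at this
  have hNle : N ≤ ⁅N, N⁆ ⊔ C₀ := Subgroup.normalClosure_le_normal hperf
  set q := QuotientGroup.mk' C₀ with hq
  intro u hu
  by_contra huC
  let φ : ↥N →* ↥(N.map q) := q.subgroupMap N
  have hφ : Function.Surjective φ := q.subgroupMap_surjective N
  have hperf' : commutator ↥(N.map q) = ⊤ := by
    refine Subgroup.map_injective (N.map q).subtype_injective ?_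
    rw [Subgroup.map_subtype_commutator, ← MonoidHom.range_eq_map, Subgroup.range_subtype, ← Subgroup.map_commutator]
    refine le_antisymm (Subgroup.map_mono (Subgroup.commutator_le_left N N)) ((Subgroup.map_mono hNle).trans ?_)
    rw [Subgroup.map_sup, hq, QuotientGroup.map_mk'_self, sup_bot_eq]
  obtain ⟨Q, hQ⟩ := Cfsg.Agent.Lib.Transfer.Fusion.exists_sylow_map_eq_inf N S₀
  rw [hS₀] at hQ
  set T : Subgroup ↥(N.map q) := (Q : Subgroup ↥N).map φ with hT
  have hTmem : ∀ x ∈ T, ∃ t, t ∈ N ∧ t ∈ S ∧ q t = (x : G ⧸ C₀) := by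
    rintro _ ⟨y, hy, rfl⟩
    have h1 : (y : G) ∈ N ⊓ S := hQ ▸ ⟨y, hy, rfl⟩
    exact ⟨y, h1.1, h1.2, rfl⟩
  have hPc : ∀ {v t : G}, v ∈ P → t ∈ N → q t * q v = q v * q t := by
    intro v t hv ht
    have h1 : q (t * v * t⁻¹ * v⁻¹) = 1 := (QuotientGroup.eq_one_iff _).mpr (mem_sectionKernel.mp (hNP ht) v hv)
    rw [map_mul, map_mul, map_mul, map_inv, map_inv] at h1
    exact mul_inv_eq_iff_eq_mul.mp (mul_inv_eq_one.mp h1)
  have hJJ : ∀ {s t : G}, s ∈ J → t ∈ J → q s * q t = q t * q s := by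
    intro s t hs ht
    have h1 : q (s * t * s⁻¹ * t⁻¹) = 1 := by
      refine (QuotientGroup.eq_one_iff _).mpr (hJker (J.mul_mem (J.mul_mem (J.mul_mem hs ht) (J.inv_mem hs)) (J.inv_mem ht)) ?_)
      rw [map_mul, map_mul, map_mul, map_inv, map_inv, hUcomm (hJS hs) (hJS ht)]; group
    rw [map_mul, map_mul, map_mul, map_inv, map_inv] at h1
    exact mul_inv_eq_iff_eq_mul.mp (mul_inv_eq_one.mp h1)
  have hdec : ∀ t ∈ N, t ∈ S → ∃ j ∈ J, ∃ v ∈ P, v ∈ N ∧ t = j * v := by
    intro t htN htS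
    have h1 : t ∈ ((J : Set G) * (P : Set G)) := by
      rw [← Subgroup.mul_normal, hJP]; exact htS
    obtain ⟨j, hj, v, hv, rfl⟩ := h1
    exact ⟨j, hj, v, hv, by simpa using N.mul_mem (N.inv_mem (hJN hj)) htN, rfl⟩
  haveI hTc : IsMulCommutative ↥T := mulComm_of_comm fun x hx y hy => Subtype.ext <| by
    obtain ⟨t, htN, htS, htx⟩ := hTmem x hx
    obtain ⟨r, hrN, hrS, hry⟩ := hTmem y hy
    obtain ⟨j, hj, v, hv, hvN, rfl⟩ := hdec t htN htS
    obtain ⟨i, hi, w, hw, hwN, rfl⟩ := hdec r hrN hrS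
    show (x : G ⧸ C₀) * y = y * x
    rw [← htx, ← hry, map_mul, map_mul]
    have e1 : Commute (q j) (q i) := hJJ hj hi
    have e2 : Commute (q j) (q w) := hPc hw (hJN hj)
    have e3 : Commute (q v) (q i) := (hPc hv (hJN hi)).symm
    have e4 : Commute (q v) (q w) := hPc hw hvN
    exact ((e1.mul_right e2).mul_left (e3.mul_right e4)).eq
  letI : CommGroup ↥T := { (inferInstance : Group ↥T) with mul_comm := hTc.is_comm.comm }
  set z : ↥(N.map q) := φ ⟨u, hu.1⟩ with hz
  have hzT : z ∈ T := by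
    have h1 : u ∈ (Q : Subgroup ↥N).map N.subtype := hQ.symm ▸ (⟨hu.1, hPS hu.2⟩ : u ∈ N ⊓ S)
    obtain ⟨y, hy, hyu⟩ := h1
    exact ⟨y, hy, congrArg φ (Subtype.ext hyu)⟩
  have hzc : ∀ x : ↥(N.map q), x * z = z * x := by
    rintro ⟨_, t, ht, rfl⟩
    exact Subtype.ext (hPc hu.2 ht)
  have key : ∀ (k : ℕ) (g₀ : ↥(N.map q)), g₀⁻¹ * z ^ k * g₀ ∈ T → g₀⁻¹ * z ^ k * g₀ = z ^ k := by
    intro k g₀ _
    rw [mul_assoc, (show Commute g₀ (z ^ k) from (show Commute g₀ z from hzc g₀).pow_right k).symm.eq,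
      inv_mul_cancel_left]
  have hker : (MonoidHom.transfer (MonoidHom.id ↥T)) z = 1 := by
    have h1 := Abelianization.commutator_subset_ker (MonoidHom.transfer (MonoidHom.id ↥T))
    rw [hperf'] at h1
    exact MonoidHom.mem_ker.mp (h1 (Subgroup.mem_top z))
  rw [MonoidHom.transfer_eq_pow _ _ key] at hker
  have h5 : (z : G ⧸ C₀) ^ T.index = 1 := by
    have h6 := congrArg (fun r : ↥T => ((r : ↥(N.map q)) : G ⧸ C₀)) hker
    simpa using h6
  obtain ⟨k, hk'⟩ := hSp ⟨u, hPS hu.2⟩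
  have hzp : (z : G ⧸ C₀) ^ p ^ k = 1 := by
    show (q u) ^ p ^ k = 1
    rw [← map_pow, show u ^ p ^ k = 1 from congrArg Subtype.val hk', map_one]
  have hco : Nat.Coprime T.index (p ^ k) := by
    refine Nat.Coprime.pow_right k ((Nat.Prime.coprime_iff_not_dvd hp.out).mpr fun hd => ?_).symm
    exact Q.not_dvd_index (hd.trans (Subgroup.index_map_dvd _ hφ))
  have h7 := pow_gcd_eq_one.mpr ⟨h5, hzp⟩
  rw [hco.gcd_eq_one, pow_one] at h7
  exact huC ((QuotientGroup.eq_one_iff u).mp h7)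

omit [Finite G] in
theorem powerClosure_mono (k : ℕ) {H L : Subgroup G} (hHL : H ≤ L) : powerClosure p k H ≤ powerClosure p k L :=
  Subgroup.closure_mono (by rintro _ ⟨x, hx, rfl⟩; exact ⟨x, hHL hx, rfl⟩)

omit [Finite G] in
theorem powerClosure_le_self (k : ℕ) (H : Subgroup G) : powerClosure p k H ≤ H :=
  (Subgroup.closure_le _).mpr (by rintro _ ⟨x, hx, rfl⟩; exact H.pow_mem hx _)

theorem powerClosure_normal (k : ℕ) (H : Subgroup G) [H.Normal] : (powerClosure p k H).Normal := by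
  refine normal_of_conj_le fun g => ?_
  rw [powerClosure, MonoidHom.map_closure]
  refine Subgroup.closure_mono ?_
  rintro _ ⟨_, ⟨x, hx, rfl⟩, rfl⟩
  exact ⟨g * x * g⁻¹, (inferInstance : H.Normal).conj_mem x hx g, by simp [conj_pow]⟩

/-- A subgroup that is the intersection of `S` with its normal closure is a Sylow subgroup of the latter. -/
theorem exists_sylow_normalClosure (hS : ∃ P : Sylow p G, (P : Subgroup G) = S) {C : Subgroup G} (hCS : C ≤ S)
    (hle : Subgroup.normalClosure (C : Set G) ⊓ S ≤ C) :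
    ∃ P : Sylow p ↥(Subgroup.normalClosure (C : Set G)),
      (P : Subgroup ↥(Subgroup.normalClosure (C : Set G))) = C.subgroupOf (Subgroup.normalClosure (C : Set G)) := by
  obtain ⟨S₀, hS₀⟩ := hS
  obtain ⟨Q, hQ⟩ := Cfsg.Agent.Lib.Transfer.Fusion.exists_sylow_map_eq_inf (Subgroup.normalClosure (C : Set G)) S₀
  refine ⟨Q, Subgroup.map_injective (Subgroup.subtype_injective _) ?_⟩
  rw [hQ, hS₀, Subgroup.map_subgroupOf_eq_of_le Subgroup.subset_normalClosure]
  exact le_antisymm hle (le_inf Subgroup.subset_normalClosure hCS)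

/-- Baumann: either the centre of `S` is central, or the three conclusions hold. -/
theorem main (hE : IsPushingUpSituation p S) :
    S ⊓ Subgroup.centralizer (S : Set G) ≤ Subgroup.center G ∨
      (S ⊓ Subgroup.centralizer (centerThompsonAOf S : Set G)).Normal ∨
      (powerClosure p 1 (S ⊓ Subgroup.centralizer (S : Set G)) ≤ Subgroup.center G ∧
        ⁅centerThompsonAOf S, S⁆ ⊓ (S ⊓ Subgroup.centralizer (S : Set G)) ≤ Subgroup.center G ∧
        Subgroup.normalClosure ((S ⊓ Subgroup.centralizer (centerThompsonAOf S : Set G) : Subgroup G) : Set G) ⊓ S ≤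
          S ⊓ Subgroup.centralizer (centerThompsonAOf S : Set G)) := by
  by_cases hZn : S ⊓ Subgroup.centralizer (S : Set G) ≤ Subgroup.center G
  · exact Or.inl hZn
  obtain hc | ⟨V, hVn, hV, hVP, hPV, hb⟩ := center_or_bound hE
  · exact absurd hc hZn
  right
  obtain ⟨M, F, _, _, n, π, h⟩ := exists_data hE
  obtain ⟨-, hS, hchar, -⟩ := hE
  obtain ⟨S₀, hS₀⟩ := id hS
  set P := pCore p G with hP
  set Z := S ⊓ Subgroup.centralizer (S : Set G) with hZ
  set J := thompsonSubgroupAOf S with hJ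
  set ZJ := centerThompsonAOf S with hZJ
  set C := S ⊓ Subgroup.centralizer (ZJ : Set G) with hC
  have hPS : P ≤ S := hS₀ ▸ Cfsg.Agent.Lib.Cores.pCore_le_sylow S₀
  have hJS : J ≤ S := thompsonSubgroupAOf_le S
  have hZJJ : ZJ ≤ J := inf_le_left
  have hJZJ : J ≤ Subgroup.centralizer (ZJ : Set G) := Subgroup.le_centralizer_iff.mp inf_le_right
  set W := P ⊓ Subgroup.centralizer (P : Set G) with hW
  have hWn : W.Normal := inferInstance
  have hWP : W ≤ P := inf_le_left
  have hPW : P ≤ Subgroup.centralizer (W : Set G) := Subgroup.le_centralizer_iff.mp inf_le_right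
  have hZW : Z ≤ W := fun x hx => by
    have h1 : x ∈ Subgroup.centralizer (P : Set G) := Subgroup.centralizer_le hPS hx.2
    exact ⟨hchar h1, h1⟩
  have hVW : V ≤ W := le_inf hVP (Subgroup.le_centralizer_iff.mp hPV)
  have hZA : ∀ A ∈ maxAbIn S, Z ≤ A := fun A hA x hx =>
    mem_of_maxAbIn hA hx.1 fun a ha => comm_of_mem_cz hx.2 (hA.1 ha)
  have hZZJ : Z ≤ ZJ := by
    obtain ⟨A, hA⟩ := maxAbIn_nonempty S
    exact le_inf ((hZA A hA).trans (le_thompsonSubgroupAOf hA)) (inf_le_right.trans (Subgroup.centralizer_le hJS))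
  by_cases hall : ∀ A ∈ maxAbIn S, A ≤ P
  · -- all abelian subgroups of largest order lie in `O_p(G)`
    left
    have hJn : J.Normal := normal_of_conj_le fun g => by
      rw [hJ, thompsonSubgroupAOf_eq, Subgroup.map_le_iff_le_comap]
      refine sSup_le fun A hA => ?_
      rw [← Subgroup.map_le_iff_le_comap]
      refine le_sSup ⟨le_trans ?_ hPS, mulComm_map _ hA.2.1, fun B hB hB' => ?_⟩
      · rintro _ ⟨x, hx, rfl⟩
        exact (inferInstance : P.Normal).conj_mem x (hall A hA hx) g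
      · rw [card_conj]; exact hA.2.2 B hB hB'
    haveI : ZJ.Normal := by rw [hZJ, centerThompsonAOf]; exact inferInstance
    by_cases hle : Subgroup.centralizer (ZJ : Set G) ⊓ S ≤ P
    · have he : C = P ⊓ Subgroup.centralizer (ZJ : Set G) :=
        le_antisymm (le_inf (by rw [hC, inf_comm]; exact hle) inf_le_right) (inf_le_inf_right _ hPS)
      rw [he]; infer_instance
    · refine absurd (le_center_of_cz (sup_eq_top hS h _ hle) ?_ inf_le_right) hZn
      exact hZZJ.trans (Subgroup.le_centralizer_iff.mp le_rfl)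
  right
  push Not at hall
  obtain ⟨A₁, hA₁, hA₁P⟩ := hall
  have hAW : ∀ A ∈ maxAbIn S, W ⊓ Subgroup.centralizer (A : Set G) = A ⊓ W := fun A hA =>
    le_antisymm (fun x hx => ⟨mem_of_maxAbIn hA (hPS (hWP hx.1)) fun a ha => comm_of_mem_cz hx.2 ha, hx.1⟩)
      (fun x hx => ⟨hx.2, Subgroup.mem_centralizer_iff.mpr fun a ha => comm_of_mulComm hA.2.1 ha hx.1⟩)
  -- the replacement
  have step : ∀ A ∈ maxAbIn S, (A ⊓ P) ⊔ W ∈ maxAbIn S ∧
      Nat.card ↥A * Nat.card ↥(A ⊓ W) = Nat.card ↥(A ⊓ P) * Nat.card ↥W ∧ V ⊔ (A ⊓ W) = W := by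
    intro A hA
    have h1 := card_sup_mul_inf (A := A) (B := P) (fun x _ => by
      rw [Subgroup.normalizer_eq_top_iff.mpr (inferInstance : P.Normal)]; exact Subgroup.mem_top x)
    have h2 : A ⊓ V ≤ V ⊓ Subgroup.centralizer ((A ⊔ P : Subgroup G) : Set G) := by
      rw [centralizer_sup]
      exact le_inf inf_le_right (le_inf (fun x hx => Subgroup.mem_centralizer_iff.mpr fun a ha =>
        comm_of_mulComm hA.2.1 ha hx.1) (inf_le_right.trans (Subgroup.le_centralizer_iff.mp hPV)))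
    have h3 := (Nat.mul_le_mul_left (Nat.card ↥(A ⊔ P)) (Subgroup.card_le_of_le h2)).trans
      (hb _ le_sup_right (sup_le hA.1 hPS))
    have h4 := card_sup_mul_inf (A := A ⊓ P) (B := W) (fun x _ => by
      rw [Subgroup.normalizer_eq_top_iff.mpr hWn]; exact Subgroup.mem_top x)
    rw [show A ⊓ P ⊓ W = A ⊓ W by rw [inf_assoc, inf_eq_right.mpr hWP]] at h4
    have h5 := card_mul_le_card_sup_mul_card_inf V (A ⊓ W)
    rw [show V ⊓ (A ⊓ W) = A ⊓ V by rw [inf_left_comm, inf_eq_left.mpr hVW]] at h5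
    have h6 : Nat.card ↥(V ⊔ A ⊓ W) ≤ Nat.card ↥W := Subgroup.card_le_of_le (sup_le hVW inf_le_right)
    have hAab : IsMulCommutative ↥((A ⊓ P) ⊔ W) := by
      rw [Cfsg.Agent.Lib.LAEven57.CL.isMulCommutative_iff_le_cz, Cfsg.Agent.Lib.LAEven57.CL.cz, centralizer_sup]
      refine sup_le (le_inf ?_ (inf_le_right.trans hPW)) (le_inf ?_ (hWP.trans hPW))
      · exact fun x hx => Subgroup.mem_centralizer_iff.mpr fun a ha => comm_of_mulComm hA.2.1 ha.1 hx.1
      · exact (inf_le_right : W ≤ _).trans (Subgroup.centralizer_le inf_le_right)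
    have hAle : Nat.card ↥((A ⊓ P) ⊔ W) ≤ Nat.card ↥A :=
      hA.2.2 _ (sup_le (inf_le_right.trans hPS) (hWP.trans hPS)) hAab
    set α := Nat.card ↥A
    set α₀ := Nat.card ↥(A ⊓ P)
    set β := Nat.card ↥(A ⊔ P)
    set π₀ := Nat.card ↥P
    set v := Nat.card ↥V
    set w := Nat.card ↥W
    set x := Nat.card ↥(A ⊓ V)
    set y := Nat.card ↥(A ⊓ W)
    set r := Nat.card ↥((A ⊓ P) ⊔ W)
    set t := Nat.card ↥(V ⊔ A ⊓ W)
    have hπpos : 0 < π₀ := Nat.card_pos
    have hxpos : 0 < x := Nat.card_pos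
    have hypos : 0 < y := Nat.card_pos
    have hvpos : 0 < v := Nat.card_pos
    have hαpos : 0 < α := Nat.card_pos
    have e1 : α * x ≤ α₀ * v := by
      refine Nat.le_of_mul_le_mul_right (c := π₀) ?_ hπpos
      calc α * x * π₀ = (α * π₀) * x := by ring
        _ = (β * x) * α₀ := by rw [← h1]; ring
        _ ≤ (π₀ * v) * α₀ := Nat.mul_le_mul_right _ h3
        _ = _ := by ring
    have e2 : α * y ≤ r * y := by
      rw [h4]
      refine Nat.le_of_mul_le_mul_right (c := v) ?_ hvpos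
      calc α * y * v = α * (v * y) := by ring
        _ ≤ α * (t * x) := Nat.mul_le_mul_left _ h5
        _ ≤ α * (w * x) := Nat.mul_le_mul_left _ (Nat.mul_le_mul_right _ h6)
        _ = (α * x) * w := by ring
        _ ≤ (α₀ * v) * w := Nat.mul_le_mul_right _ e1
        _ = _ := by ring
    have hαr : r = α := le_antisymm hAle (Nat.le_of_mul_le_mul_right e2 hypos)
    have hAeq : α * y = α₀ * w := by rw [← hαr]; exact h4
    refine ⟨⟨sup_le (inf_le_right.trans hPS) (hWP.trans hPS), hAab, fun B hB hB' => ?_⟩, hAeq, ?_⟩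
    · exact (hA.2.2 B hB hB').trans hαr.ge
    · refine Subgroup.eq_of_le_of_card_ge (sup_le hVW inf_le_right) ?_
      show w ≤ t
      refine Nat.le_of_mul_le_mul_right (c := α * x) ?_ (Nat.mul_pos hαpos hxpos)
      calc w * (α * x) ≤ w * (α₀ * v) := Nat.mul_le_mul_left _ e1
        _ = (α * y) * v := by rw [hAeq]; ring
        _ = α * (v * y) := by ring
        _ ≤ α * (t * x) := Nat.mul_le_mul_left _ h5
        _ = _ := by ring
  -- the powers
  haveI := hWn
  haveI := powerClosure_normal (p := p) 1 W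
  have hpow : powerClosure p 1 Z ≤ Subgroup.center G := by
    refine le_center_of_cz (sup_eq_top hS h (Subgroup.centralizer (powerClosure p 1 W : Set G)) ?_)
      ((powerClosure_mono 1 hZW).trans (Subgroup.le_centralizer_iff.mp le_rfl))
      ((powerClosure_le_self 1 Z).trans inf_le_right)
    intro hle
    refine hA₁P fun a ha => hle ⟨?_, hA₁.1 ha⟩
    have hle' : powerClosure p 1 W ≤ A₁ := by
      refine (Subgroup.closure_le _).mpr ?_
      rintro _ ⟨w, hw, rfl⟩
      rw [← (step A₁ hA₁).2.2] at hw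
      have hw' : w ∈ ((V : Set G) * ((A₁ ⊓ W : Subgroup G) : Set G)) := by
        rw [← Subgroup.normal_mul]; exact hw
      obtain ⟨v, hv, c, hc, rfl⟩ := hw'
      have hcom : Commute v c := (comm_of_mem_cz (hPW (hVP hv)) hc.2).symm
      show (v * c) ^ p ^ 1 ∈ A₁
      rw [pow_one, hcom.mul_pow, Cfsg.Agent.Lib.PGroups.elemAb_pow hV hv, one_mul]
      exact A₁.pow_mem hc.1 p
    exact Subgroup.mem_centralizer_iff.mpr fun r hr => comm_of_mulComm hA₁.2.1 (hle' hr) ha
  -- the normal subgroups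
  have hA₁' := (step A₁ hA₁).1
  have hA₁'P : (A₁ ⊓ P) ⊔ W ≤ P := sup_le inf_le_right hWP
  set ZP := centerThompsonAOf P with hZP
  haveI hZPn : ZP.Normal := Subgroup.normalizer_eq_top_iff.mp (top_le_iff.mp
    ((le_of_eq (Subgroup.normalizer_eq_top_iff.mpr (inferInstance : P.Normal)).symm).trans
      (normalizer_le_normalizer_centerThompsonA P)))
  have hsub : maxAbIn P ⊆ maxAbIn S := maxAbIn_mono hPS hA₁' hA₁'P
  have hZJP : ZJ ≤ ZP := by
    obtain ⟨B, hB⟩ := maxAbIn_nonempty P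
    have hle : ZJ ≤ B := fun x hx => mem_of_centerA (hsub hB) hx
    refine le_inf (hle.trans (le_thompsonSubgroupAOf hB)) ?_
    exact inf_le_right.trans (Subgroup.centralizer_le (thompsonSubgroupAOf_mono hPS hA₁' hA₁'P))
  have hZPle : ∀ A ∈ maxAbIn S, ZP ≤ (A ⊓ P) ⊔ W := fun A hA x hx =>
    mem_of_centerA (P := P) ⟨sup_le inf_le_right hWP, (step A hA).1.2.1,
      fun B hB hB' => (step A hA).1.2.2 B (hB.trans hPS) hB'⟩ hx
  have hZJleP : ZJ ≤ P := hZJP.trans (centerThompsonAOf_le P)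
  haveI := sectionKernel_normal ZP W
  have hJD : J ≤ sectionKernel ZP W := by
    rw [hJ, thompsonSubgroupAOf_eq]
    refine sSup_le fun A hA a ha => mem_sectionKernel.mpr fun x hx => ?_
    have hx' : x ∈ (((A ⊓ P : Subgroup G) : Set G) * (W : Set G)) := by
      rw [← Subgroup.mul_normal]; exact hZPle A hA hx
    obtain ⟨b, hb', w, hw, rfl⟩ := hx'
    have he : a * (b * w) * a⁻¹ * (b * w)⁻¹ = b * (a * w * a⁻¹ * w⁻¹) * b⁻¹ := by
      calc a * (b * w) * a⁻¹ * (b * w)⁻¹ = (a * b) * w * a⁻¹ * w⁻¹ * b⁻¹ := by group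
        _ = (b * a) * w * a⁻¹ * w⁻¹ * b⁻¹ := by rw [comm_of_mulComm hA.2.1 ha hb'.1]
        _ = _ := by group
    rw [he]
    exact hWn.conj_mem _ (W.mul_mem (hWn.conj_mem w hw a) (W.inv_mem hw)) b
  set N := Subgroup.normalClosure (J : Set G) with hN
  have hND : N ≤ sectionKernel ZP W := Subgroup.normalClosure_le_normal hJD
  have hJnP : ¬ J ≤ P := fun hle => hA₁P ((le_thompsonSubgroupAOf hA₁).trans hle)
  have hNS : N ⊔ S = ⊤ := sup_eq_top hS h N fun hle =>
    hJnP ((le_inf Subgroup.subset_normalClosure hJS).trans hle)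
  have hnJ : Subgroup.normalizer (S : Set G) ≤ Subgroup.normalizer (J : Set G) :=
    normalizer_le_normalizer_thompsonA S
  have hJP : J ⊔ P = S := by
    refine (irreducible hS h le_sup_right (sup_le hJS hPS) fun g hg x hx => ?_).resolve_left
      fun e => hJnP (le_sup_left.trans e.le)
    have hgn : g ∈ Subgroup.normalizer ((J ⊔ P : Subgroup G) : Set G) := mem_normalizer_iff_conj_eq.mpr (by
      rw [Subgroup.map_sup, mem_normalizer_iff_conj_eq.mp (hnJ hg), mem_normalizer_iff_conj_eq.mp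
        (show g ∈ Subgroup.normalizer (P : Set G) by
          rw [Subgroup.normalizer_eq_top_iff.mpr inferInstance]; exact Subgroup.mem_top g)])
    exact (Subgroup.mem_normalizer_iff.mp hgn x).mp hx
  have hSZJ : S ≤ Subgroup.normalizer (ZJ : Set G) :=
    Subgroup.le_normalizer.trans (normalizer_le_normalizer_centerThompsonA S)
  haveI hX₁ : (ZJ ⊔ W).Normal := by
    refine Subgroup.normalizer_eq_top_iff.mp (top_le_iff.mp (hNS ▸ sup_le ?_ ?_))
    · intro m hm
      refine mem_normalizer_of_conj_mem fun x hx => ?_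
      have h1 := mem_sectionKernel.mp (hND hm)
      have hx' : x ∈ ((ZJ : Set G) * (W : Set G)) := by rw [← Subgroup.mul_normal]; exact hx
      obtain ⟨z, hz, w, hw, rfl⟩ := hx'
      have he : m * (z * w) * m⁻¹ = (m * z * m⁻¹ * z⁻¹) * z * (m * w * m⁻¹) := by group
      rw [he]
      exact Subgroup.mul_mem _ (Subgroup.mul_mem _ (Subgroup.mem_sup_right (h1 z (hZJP hz)))
        (Subgroup.mem_sup_left hz)) (Subgroup.mem_sup_right (hWn.conj_mem w hw m))
    · intro s hs
      refine mem_normalizer_iff_conj_eq.mpr ?_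
      rw [Subgroup.map_sup, mem_normalizer_iff_conj_eq.mp (hSZJ hs), mem_normalizer_iff_conj_eq.mp
        (show s ∈ Subgroup.normalizer (W : Set G) by
          rw [Subgroup.normalizer_eq_top_iff.mpr hWn]; exact Subgroup.mem_top s)]
  set Y := ⁅ZJ, P⁆ with hY
  have hYZJ : Y ≤ ZJ := Subgroup.commutator_le.mpr fun z hz u hu => by
    rw [commutatorElement_def, show z * u * z⁻¹ * u⁻¹ = z * (u * z⁻¹ * u⁻¹) by group]
    exact ZJ.mul_mem hz ((Subgroup.mem_normalizer_iff.mp (hSZJ (hPS hu)) _).mp (ZJ.inv_mem hz))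
  haveI hYn : Y.Normal := by
    refine Subgroup.normalizer_eq_top_iff.mp (top_le_iff.mp (hNS ▸ sup_le ?_ ?_))
    · intro m hm
      refine mem_normalizer_iff_conj_eq.mpr (Subgroup.eq_of_le_of_card_ge ?_ (card_conj m Y).ge)
      rw [hY, Subgroup.map_commutator]
      refine Subgroup.commutator_le.mpr ?_
      rintro _ ⟨z, hz, rfl⟩ _ ⟨u, hu, rfl⟩
      set v := (MulAut.conj m).toMonoidHom u with hvdef
      have hv : v ∈ P := (inferInstance : P.Normal).conj_mem u hu m
      set c := m * z * m⁻¹ * z⁻¹ with hcdef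
      have hcW : c ∈ W := mem_sectionKernel.mp (hND hm) z (hZJP hz)
      have hzv : z * v * z⁻¹ ∈ P := (inferInstance : P.Normal).conj_mem v hv z
      have he : (MulAut.conj m).toMonoidHom z = c * z := by
        simp only [hcdef, MulEquiv.coe_toMonoidHom, MulAut.conj_apply]; group
      rw [he]
      have he2 : ⁅c * z, v⁆ = ⁅z, v⁆ := by
        rw [commutatorElement_def, commutatorElement_def]
        calc c * z * v * (c * z)⁻¹ * v⁻¹ = c * (z * v * z⁻¹) * c⁻¹ * v⁻¹ := by group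
          _ = _ := by rw [(conj_of_mem_cz hcW.2 hzv).1]
      rw [he2]
      exact Subgroup.commutator_mem_commutator hz hv
    · intro s hs
      refine mem_normalizer_iff_conj_eq.mpr ?_
      rw [hY, Subgroup.map_commutator, mem_normalizer_iff_conj_eq.mp (hSZJ hs), mem_normalizer_iff_conj_eq.mp
        (show s ∈ Subgroup.normalizer (P : Set G) by
          rw [Subgroup.normalizer_eq_top_iff.mpr inferInstance]; exact Subgroup.mem_top s)]
  have hYS : ⁅ZJ, S⁆ ≤ Y := by
    have hSle : S ≤ sectionKernel ZJ Y := hJP ▸ sup_le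
      (fun j hj => mem_sectionKernel.mpr fun z hz => by
        rw [(conj_of_mem_cz (hJZJ hj) hz).1, mul_inv_cancel]; exact Subgroup.one_mem _)
      (fun u hu => mem_sectionKernel.mpr fun z hz => by
        rw [← commutatorElement_def, ← commutatorElement_inv]
        exact Y.inv_mem (Subgroup.commutator_mem_commutator hz hu))
    refine Subgroup.commutator_le.mpr fun z hz s hs => ?_
    rw [← commutatorElement_inv]
    exact Y.inv_mem (mem_sectionKernel.mp (hSle hs) z hz)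
  have hYW : Y ⊓ W ≤ Subgroup.center G := by
    haveI : (Y ⊓ W).Normal := inferInstance
    have hcS : S ≤ Subgroup.centralizer ((Y ⊓ W : Subgroup G) : Set G) := hJP ▸ sup_le
      (hJZJ.trans (Subgroup.centralizer_le (inf_le_left.trans hYZJ)))
      (hPW.trans (Subgroup.centralizer_le inf_le_right))
    exact le_center_of_cz (sup_eq_top hS h _ (fun hle => hJnP fun j hj => hle ⟨hcS (hJS hj), hJS hj⟩))
      (Subgroup.le_centralizer_iff.mp le_rfl) (Subgroup.le_centralizer_iff.mp hcS)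
  refine ⟨hpow, (inf_le_inf hYS hZW).trans hYW, ?_⟩
  -- the normal closure
  set C₀ := P ⊓ Subgroup.centralizer ((ZJ ⊔ W : Subgroup G) : Set G) with hC₀
  have hC₀mem : ∀ {x : G}, x ∈ P → x ∈ Subgroup.centralizer (ZJ : Set G) → x ∈ C₀ := fun h1 h2 => by
    refine ⟨h1, ?_⟩
    rw [centralizer_sup]
    exact ⟨h2, hPW h1⟩
  have hC₀C : C₀ ≤ C := fun x hx => ⟨hPS hx.1, Subgroup.centralizer_le (SetLike.coe_subset_coe.mpr (le_sup_left : ZJ ≤ ZJ ⊔ W)) hx.2⟩
  haveI : C₀.Normal := inferInstance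
  have hkey : N ⊓ P ≤ C₀ := by
    rcases Nat.lt_or_ge 1 n with hn | hn
    · exact key_big hS h hn hJS hnJ hJP (fun x hx => hC₀mem hx.2 (hJZJ hx.1)) hNS
    · have hn1 : n = 1 := le_antisymm hn (n_pos h.2.2.2.1)
      intro u hu
      refine hC₀mem hu.2 (Subgroup.mem_centralizer_iff.mpr fun z hz => ?_)
      refine (key_one hS h hn1 hZn hZW hWP hPW hA₁.1 hA₁P (le_thompsonSubgroupAOf hA₁) hJS hJZJ
        (hAW A₁ hA₁) (step A₁ hA₁).2.1 (fun v hv y hy hvy => ?_) u hu.1 hu.2 z hz).symm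
      refine hYW ⟨?_, hvy⟩
      rw [← commutatorElement_def, ← commutatorElement_inv]
      exact Y.inv_mem (Subgroup.commutator_mem_commutator hy hv)
  have hdec : ∀ x ∈ S, ∃ j ∈ J, ∃ u ∈ P, j * u = x := fun x hx => by
    have h1 : x ∈ ((J : Set G) * (P : Set G)) := by rw [← Subgroup.mul_normal, hJP]; exact hx
    exact h1
  have hCle : C ≤ J ⊔ C₀ := by
    intro x hx
    obtain ⟨j, hj, u, hu, rfl⟩ := hdec x hx.1
    refine Subgroup.mul_mem _ (Subgroup.mem_sup_left hj) (Subgroup.mem_sup_right (hC₀mem hu ?_))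
    have := Subgroup.mul_mem _ (Subgroup.inv_mem _ (hJZJ hj)) hx.2
    simpa using this
  have hcl : Subgroup.normalClosure (C : Set G) ≤ N ⊔ C₀ :=
    Subgroup.normalClosure_le_normal (hCle.trans (sup_le_sup_right (show J ≤ N from Subgroup.subset_normalClosure) C₀))
  rintro x ⟨hx, hxS⟩
  have hx' : x ∈ ((N : Set G) * (C₀ : Set G)) := by rw [← Subgroup.normal_mul]; exact hcl hx
  obtain ⟨m, hm, c, hc, rfl⟩ := hx'
  have hmS : m ∈ S := by simpa using S.mul_mem hxS (S.inv_mem (hPS hc.1))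
  obtain ⟨j, hj, u, hu, rfl⟩ := hdec m hmS
  have huN : u ∈ N := by simpa using N.mul_mem (N.inv_mem (Subgroup.subset_normalClosure hj)) hm
  exact C.mul_mem (C.mul_mem ⟨hJS hj, hJZJ hj⟩ (hC₀C (hkey ⟨huN, hu⟩))) (hC₀C hc)

/-- The hypotheses in the form they are stated give a pushing-up situation. -/
theorem pushingUp (S : Sylow p G) (hE₁ : Subgroup.centralizer (pCore p G : Set G) ≤ pCore p G)
    (hE₂ : ∃! M : Subgroup G, IsCoatom M ∧ (S : Subgroup G) ≤ M) (K : Subgroup G) [K.Normal] (F : Type) [Field F]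
    [Fintype F] (n : ℕ) (_hn : 1 ≤ n) (hF : Fintype.card F = p ^ n)
    (hE₃ : Nonempty (G ⧸ K ≃* Matrix.ProjectiveSpecialLinearGroup (Fin 2) F)) :
    IsPushingUpSituation p (S : Subgroup G) := by
  obtain ⟨M, ⟨hM, hSM⟩, -⟩ := id hE₂
  exact ⟨fun e => hM.1 (top_le_iff.mp (e.le.trans bot_le)), ⟨S, rfl⟩, hE₁, hE₂, K, inferInstance, F, inferInstance,
    inferInstance, n, hF, hE₃⟩

end Cfsg.Agent.Lib.Baumann.PushCenter
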