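import Cfsg.Agent.Lib.Baumann.Blocks
import Cfsg.Agent.Lib.Baumann.NaturalIrred

/-!
# The module `W/Z` of a block

`W = Ω₁(Z(O_p(E)))`, `Z = C_W(E)`: irreducible, nontrivial, with kernel `O_p(E)`; consequences.

Owner: helper19.
-/

set_option autoImplicit false
set_option linter.style.haveILetI false

open Cfsg
open scoped commutatorElement

namespace Cfsg.Agent.Lib.Baumann

variable {G : Type*} [Group G] [Finite G] {p : ℕ}

/-- The facts about the action of `E` on `W / Z` which we use. -/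
structure ModuleData (E Q W Z : Subgroup G) : Prop where
  irred : ∀ U : Subgroup G, Z ≤ U → U ≤ W → E ≤ Subgroup.normalizer (U : Set G) → U = Z ∨ U = W
  ne : Z ≠ W
  kernel : ∀ e ∈ E, (∀ w ∈ W, ⁅e, w⁆ ∈ Z) → e ∈ Q

theorem moduleData_of_rep {R M : Type*} [Group R] [AddCommGroup M] (act : R → M → M) (Rim : Subgroup R)
    (M0 : Set M) {E Q W Z : Subgroup G} (hQE : Q ≤ E) (hZW : Z ≤ W)
    (hQW : ∀ x ∈ Q, ∀ w ∈ W, x * w * x⁻¹ = w) (hcard : (Q.subgroupOf E).index = Nat.card Rim)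
    (ρ : E →* R) (ψ : W →* Multiplicative M) (hρ : ρ.range = Rim)
    (hmem : ∀ u, Multiplicative.toAdd (ψ u) ∈ M0) (hsurj : ∀ v ∈ M0, ∃ u, Multiplicative.toAdd (ψ u) = v)
    (hker : ∀ u : W, ψ u = 1 ↔ (u : G) ∈ Z)
    (hact : ∀ (e : E) (u : W), ∃ w : W, (w : G) = (e : G) * u * (e : G)⁻¹ ∧
      Multiplicative.toAdd (ψ w) = act (ρ e) (Multiplicative.toAdd (ψ u)))
    (hirr : ∀ U : AddSubgroup M, (∀ v ∈ U, v ∈ M0) → (∀ r ∈ Rim, ∀ v ∈ U, act r v ∈ U) →
      U = ⊥ ∨ ∀ v ∈ M0, v ∈ U)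
    (hne : ∃ v ∈ M0, v ≠ 0) (hfaith : ∀ r ∈ Rim, (∀ v ∈ M0, act r v = v) → r = 1) :
    ModuleData E Q W Z := by
  have hfix : ∀ e : E, (∀ w : W, ⁅(e : G), (w : G)⁆ ∈ Z) → ρ e = 1 := by
    intro e he
    refine hfaith _ (hρ ▸ ⟨e, rfl⟩) fun v hv => ?_
    obtain ⟨u, rfl⟩ := hsurj v hv
    obtain ⟨w, hw, hwa⟩ := hact e u
    rw [← hwa]
    have h1 : ψ (w * u⁻¹) = 1 := (hker _).2 (by
      rw [Subgroup.coe_mul, hw, Subgroup.coe_inv, ← commutatorElement_def]; exact he u)
    rw [map_mul, map_inv, mul_inv_eq_one] at h1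
    rw [h1]
  refine ⟨fun U hZU hUW hEU => ?_, fun h => ?_, fun e he hcomm => ?_⟩
  · set UM : AddSubgroup M := Subgroup.toAddSubgroup ((U.subgroupOf W).map ψ) with hUM
    have hmemU : ∀ v, v ∈ UM ↔ ∃ u : W, (u : G) ∈ U ∧ Multiplicative.toAdd (ψ u) = v := fun v =>
      ⟨fun ⟨u, hu, huv⟩ => ⟨u, hu, congrArg Multiplicative.toAdd huv⟩,
        fun ⟨u, hu, huv⟩ => ⟨u, hu, congrArg Multiplicative.ofAdd huv⟩⟩
    rcases hirr UM (fun v hv => by obtain ⟨u, -, rfl⟩ := (hmemU v).1 hv; exact hmem u)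
        (fun r hr v hv => by
          obtain ⟨e, rfl⟩ := hρ.ge hr
          obtain ⟨u, hu, rfl⟩ := (hmemU v).1 hv
          obtain ⟨w, hw, hwa⟩ := hact e u
          exact (hmemU _).2 ⟨w, by rw [hw]; exact (Subgroup.mem_normalizer_iff.1 (hEU e.2) _).1 hu, hwa⟩)
      with h | h
    · refine Or.inl (le_antisymm (fun u hu => (hker ⟨u, hUW hu⟩).1 ?_) hZU)
      have h2 : Multiplicative.toAdd (ψ ⟨u, hUW hu⟩) ∈ UM := (hmemU _).2 ⟨⟨u, hUW hu⟩, hu, rfl⟩
      rw [h, AddSubgroup.mem_bot] at h2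
      exact congrArg Multiplicative.ofAdd h2
    · refine Or.inr (le_antisymm hUW fun w hw => ?_)
      obtain ⟨u, hu, huv⟩ := (hmemU _).1 (h _ (hmem ⟨w, hw⟩))
      have h1 : ψ (⟨w, hw⟩ * u⁻¹) = 1 := by
        rw [map_mul, map_inv, mul_inv_eq_one]
        exact (congrArg Multiplicative.ofAdd huv).symm
      have h2 : (w * (u : G)⁻¹) * u ∈ U := mul_mem (hZU ((hker _).1 h1)) hu
      rwa [inv_mul_cancel_right] at h2
  · obtain ⟨v, hv, hv0⟩ := hne
    obtain ⟨u, rfl⟩ := hsurj v hv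
    refine hv0 ?_
    rw [(hker u).2 (h.ge u.2)]
    rfl
  · have hle : Q.subgroupOf E ≤ ρ.ker := fun x hx => hfix x fun w => by
      rw [commutatorElement_def, hQW (x : G) hx w w.2, mul_inv_cancel]
      exact one_mem _
    haveI : Finite Rim := hρ ▸ Finite.of_surjective ρ.rangeRestrict ρ.rangeRestrict_surjective
    have heq : Q.subgroupOf E = ρ.ker := by
      refine Subgroup.eq_of_le_of_card_ge hle ?_
      have h1 := Subgroup.card_mul_index (Q.subgroupOf E)
      have h2 := Subgroup.card_mul_index ρ.ker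
      rw [Subgroup.index_ker, hρ] at h2
      rw [hcard, ← h2] at h1
      exact (Nat.eq_of_mul_eq_mul_right Nat.card_pos h1).ge
    exact (heq.ge (hfix ⟨e, he⟩ fun w => hcomm w w.2) : _)

variable [hp : Fact p.Prime]

omit hp in
theorem omegaOneCenter_le (p : ℕ) (X : Subgroup G) :
    Cfsg.omegaOneCenter p X ≤ X ⊓ Subgroup.centralizer (X : Set G) :=
  (Subgroup.closure_le _).2 fun _ hx => hx.1

omit hp in
theorem omegaOneCenter_pow (p : ℕ) (X : Subgroup G) {w : G} (hw : w ∈ Cfsg.omegaOneCenter p X) : w ^ p = 1 := by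
  induction hw using Subgroup.closure_induction with
  | mem x hx => exact hx.2
  | one => exact one_pow p
  | mul x y hx hy hx' hy' =>
    have hxX := (omegaOneCenter_le p X hx).1
    have hc : Commute x y := (Subgroup.mem_centralizer_iff.1 (omegaOneCenter_le p X hy).2 x hxX)
    rw [hc.mul_pow, hx', hy', one_mul]
  | inv x _ hx' => rw [inv_pow, hx', inv_one]

theorem isBaumannBlock_moduleData {T E : Subgroup G} (hE : Cfsg.IsBaumannBlock p T E) :
    ModuleData E (Cfsg.pCoreOf p E) (Cfsg.omegaOneCenter p (Cfsg.pCoreOf p E))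
      (Cfsg.omegaOneCenter p (Cfsg.pCoreOf p E) ⊓ Subgroup.centralizer (E : Set G)) := by
  obtain ⟨hres, -, -, hnt, hcase⟩ := hE
  set Q := Cfsg.pCoreOf p E
  set W := Cfsg.omegaOneCenter p Q
  have hQE : Q ≤ E := CharP.pCoreOf_le p E
  have hQW : ∀ x ∈ Q, ∀ w ∈ W, x * w * x⁻¹ = w := fun x hx w hw =>
    mul_inv_eq_iff_eq_mul.2 (Subgroup.mem_centralizer_iff.1 (omegaOneCenter_le p Q hw).2 x hx)
  have hidx : (Q.subgroupOf E).index = Nat.card (↥E ⧸ Cfsg.pCore p ↥E) := by
    rw [show Q.subgroupOf E = Cfsg.pCore p ↥E from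
      Subgroup.comap_map_eq_self_of_injective E.subtype_injective _]
    rfl
  rcases hcase with ⟨F, _, _, n, -, ⟨iso⟩, ⟨-, -, ρ, ψ, hρ, hψ, hker, hact⟩, -⟩ |
    ⟨-, m, ⟨iso⟩, ⟨-, -, ρ, ψ, hρ, hsum, hsurj, hker, hact⟩, -⟩
  · refine moduleData_of_rep (fun r v => (r.1 : Matrix (Fin 2) (Fin 2) F).mulVec v) _ Set.univ hQE inf_le_left
      hQW (hidx.trans (Nat.card_congr iso.toEquiv)) ρ ψ hρ (fun u => Set.mem_univ _) (fun v _ => ?_) hker hact
      (fun U _ hU => (irreducible_commutator_SL2 U hU).imp id fun h v _ => h v) ⟨![1, 0], trivial, fun e => ?_⟩ ?_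
    · obtain ⟨u, hu⟩ := hψ (Multiplicative.ofAdd v)
      exact ⟨u, congrArg Multiplicative.toAdd hu⟩
    · simpa using congrFun e 0
    · intro r _ hr
      apply CharP.SL2Fix.ext4
      · simpa [Matrix.mulVec, dotProduct, Fin.sum_univ_two] using congrFun (hr ![1, 0] trivial) 0
      · simpa [Matrix.mulVec, dotProduct, Fin.sum_univ_two] using congrFun (hr ![0, 1] trivial) 0
      · simpa [Matrix.mulVec, dotProduct, Fin.sum_univ_two] using congrFun (hr ![1, 0] trivial) 1
      · simpa [Matrix.mulVec, dotProduct, Fin.sum_univ_two] using congrFun (hr ![0, 1] trivial) 1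
  · classical
    have hn : 3 ≤ 2 * m + 1 := by
      by_contra hlt
      have hm : m = 0 := by omega
      subst hm
      haveI : Subsingleton (Equiv.Perm (Fin (2 * 0 + 1))) :=
        ⟨fun a b => Equiv.ext fun x => Subsingleton.elim (α := Fin 1) _ _⟩
      haveI : Subsingleton (↥E ⧸ Cfsg.pCore p ↥E) := iso.toEquiv.subsingleton
      have htop : Cfsg.pCore p ↥E = ⊤ := QuotientGroup.subsingleton_iff.1 inferInstance
      have hEp : IsPGroup p E := (Lib.Cores.pCore_eq_top_iff).1 htop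
      have hbot : Cfsg.pResidualOf p E = ⊥ := by
        rw [pResidualOf_eq_closure, Subgroup.closure_eq_bot_iff]
        rintro g ⟨hg, hgo⟩
        obtain ⟨k, hk⟩ := isPGroup_iff_pow_pow_eq_one.1 hEp ⟨g, hg⟩
        have h1 : g ^ p ^ k = 1 := congrArg Subtype.val hk
        have h2 := pow_gcd_eq_one.2 ⟨pow_orderOf_eq_one g, h1⟩
        rw [show Nat.gcd (orderOf g) (p ^ k) = 1 from hgo.pow_right k, pow_one] at h2
        exact h2
      rw [← hres, hbot] at hnt
      exact hnt (Subgroup.commutator_bot_left _)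
    have hz : ∀ x : ZMod 2, x = 0 ∨ x = 1 := by decide
    refine moduleData_of_rep (fun (σ : Equiv.Perm (Fin (2 * m + 1))) v => fun i => v (σ⁻¹ i)) _
      {v : Fin (2 * m + 1) → ZMod 2 | ∑ i, v i = 0} hQE inf_le_left hQW
      (hidx.trans (Nat.card_congr iso.toEquiv)) ρ ψ hρ hsum hsurj hker ?_
      (fun U hU0 hU => irreducible_alternating ⟨m, rfl⟩ hn U hU0 hU)
      ⟨Pi.single ⟨0, by omega⟩ 1 + Pi.single ⟨1, by omega⟩ 1, by
        simp [Finset.sum_add_distrib, Finset.sum_pi_single', CharTwo.add_self_eq_zero], fun e => ?_⟩ ?_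
    · intro e u
      obtain ⟨w, hw, hwa⟩ := hact e u
      exact ⟨w, hw, funext hwa⟩
    · simpa [Pi.single_apply, Fin.ext_iff] using congrFun e ⟨0, by omega⟩
    · intro σ _ hσ
      by_contra hne
      obtain ⟨a, ha⟩ : ∃ a, σ⁻¹ a ≠ a := by
        by_contra hall
        push Not at hall
        exact hne (Equiv.ext fun a => by simpa using congrArg σ (hall a).symm)
      obtain ⟨c, hc⟩ : ∃ c, c ∉ ({a, σ⁻¹ a} : Finset (Fin (2 * m + 1))) := by
        by_contra hall
        push Not at hall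
        have h2 := Finset.card_le_card (show (Finset.univ : Finset (Fin (2 * m + 1))) ⊆ {a, σ⁻¹ a} from
          fun c _ => hall c)
        rw [Finset.card_univ, Fintype.card_fin] at h2
        have h3 : ({a, σ⁻¹ a} : Finset (Fin (2 * m + 1))).card ≤ 2 := Finset.card_le_two
        omega
      simp only [Finset.mem_insert, Finset.mem_singleton, not_or] at hc
      have h1 := congrFun (hσ (Pi.single a 1 + Pi.single c 1) (by
        simp [Finset.sum_add_distrib, Finset.sum_pi_single', CharTwo.add_self_eq_zero])) a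
      simp [Pi.single_apply, show (Equiv.symm σ) a ≠ a from ha, show (Equiv.symm σ) a ≠ c from Ne.symm hc.2,
        Ne.symm hc.1] at h1

omit [Finite G] hp in
theorem normalizer_le_omegaOneCenter [Finite G] (p : ℕ) (X : Subgroup G) :
    Subgroup.normalizer (X : Set G) ≤ Subgroup.normalizer (Cfsg.omegaOneCenter p X : Set G) := by
  intro g hg
  refine mem_normalizer_of_forall fun x hx => ?_
  have hle : Cfsg.omegaOneCenter p X ≤ (Cfsg.omegaOneCenter p X).comap (MulAut.conj g).toMonoidHom :=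
    (Subgroup.closure_le _).2 fun y hy => Subgroup.subset_closure
      ⟨⟨(Subgroup.mem_normalizer_iff.1 hg y).1 hy.1.1, Subgroup.mem_centralizer_iff.2 fun z hz => by
        have h1 := Subgroup.mem_centralizer_iff.1 hy.1.2 _ ((Subgroup.mem_normalizer_iff''.1 hg z).1 hz)
        show z * (g * y * g⁻¹) = g * y * g⁻¹ * z
        calc z * (g * y * g⁻¹) = g * (g⁻¹ * z * g * y) * g⁻¹ := by group
          _ = g * (y * (g⁻¹ * z * g)) * g⁻¹ := by rw [h1]
          _ = _ := by group⟩,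
        show (g * y * g⁻¹) ^ p = 1 by rw [conj_pow, hy.2, mul_one, mul_inv_cancel]⟩
  exact hle hx

section Main

variable {E : Subgroup G}

/-- `W_E`, normalised by `N(E)`. -/
theorem normalizer_le_commutator (p : ℕ) (E : Subgroup G) :
    Subgroup.normalizer (E : Set G) ≤
      Subgroup.normalizer ((⁅Cfsg.omegaOneCenter p (Cfsg.pCoreOf p E), E⁆ : Subgroup G) : Set G) := by
  intro g hg
  refine PGroups.mem_normalizer_of_map_conj_eq ?_
  rw [Subgroup.map_commutator, PGroups.map_conj_eq_of_mem_normalizer hg,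
    PGroups.map_conj_eq_of_mem_normalizer (P := Cfsg.omegaOneCenter p (Cfsg.pCoreOf p E))
      (normalizer_le_omegaOneCenter p _ (CharP.normalizer_le_normalizer_map_char _ hg))]

variable (T : Sylow p G) (hE : Cfsg.IsBaumannBlock p (T : Subgroup G) E)
include hE

/-- `[W_E, E] = W_E` and `W_E Z = W`. -/
theorem commutator_facts :
    ⁅⁅Cfsg.omegaOneCenter p (Cfsg.pCoreOf p E), E⁆, E⁆ = ⁅Cfsg.omegaOneCenter p (Cfsg.pCoreOf p E), E⁆ ∧
      ⁅Cfsg.omegaOneCenter p (Cfsg.pCoreOf p E), E⁆ ⊔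
        (Cfsg.omegaOneCenter p (Cfsg.pCoreOf p E) ⊓ Subgroup.centralizer (E : Set G)) =
          Cfsg.omegaOneCenter p (Cfsg.pCoreOf p E) ∧
      ⁅Cfsg.omegaOneCenter p (Cfsg.pCoreOf p E), E⁆ ≠ ⊥ := by
  have D := isBaumannBlock_moduleData hE
  set Q := Cfsg.pCoreOf p E
  set W := Cfsg.omegaOneCenter p Q with hW
  set Z := W ⊓ Subgroup.centralizer (E : Set G)
  set WE := ⁅W, E⁆ with hWE
  have hEN : E ≤ Subgroup.normalizer (W : Set G) :=
    (CharP.le_normalizer_pCoreOf p E).trans (normalizer_le_omegaOneCenter p Q)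
  have hEWE : E ≤ Subgroup.normalizer (WE : Set G) := Coprime.right_le_normalizer_commutator W E
  have hWEW : WE ≤ W := Coprime.commutator_le_of_le_normalizer hEN
  have hEZ : E ≤ Subgroup.normalizer (Z : Set G) := fun e he => mem_normalizer_of_forall fun z hz => by
    rw [Subgroup.mem_centralizer_iff.1 hz.2 e he, mul_inv_cancel_right]
    exact hz
  have hnotcent : ¬ E ≤ Subgroup.centralizer (W : Set G) := fun h => D.ne (inf_eq_left.2 fun w hw =>
    Subgroup.mem_centralizer_iff.2 fun e he => (Subgroup.mem_centralizer_iff.1 (h he) w hw).symm)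
  have hsup : WE ⊔ Z = W := by
    refine ((D.irred _ le_sup_right (sup_le hWEW inf_le_left)
      (Coprime.le_normalizer_sup hEWE hEZ)).resolve_left fun h => hnotcent ?_)
    have hWEZ : WE ≤ Z := h ▸ le_sup_left
    have hEeq : E = Subgroup.closure {g | g ∈ E ∧ (orderOf g).Coprime p} :=
      (pResidualOf_eq_closure E) ▸ hE.1.symm
    rw [hEeq, Subgroup.closure_le]
    rintro e ⟨he, heo⟩
    have hWp : IsPGroup p W := (CharP.isPGroup_pCoreOf p E).to_le ((omegaOneCenter_le p Q).trans inf_le_left)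
    refine Coprime.le_centralizer_of_series (A := Subgroup.zpowers e) (K := W) (N := WE) ?_
      (Subgroup.commutator_mono le_rfl (Subgroup.zpowers_le.2 he)) ?_ (Subgroup.mem_zpowers e)
    · obtain ⟨k, hk⟩ := IsPGroup.iff_card.1 (hWp.to_le hWEW)
      rw [Nat.card_zpowers, hk]; exact heo.pow_right k
    · rw [Subgroup.commutator_eq_bot_iff_le_centralizer]
      exact (hWEZ.trans inf_le_right).trans (Subgroup.centralizer_le (Subgroup.zpowers_le.2 he))
  have hidem : ⁅WE, E⁆ = WE := by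
    refine le_antisymm (Coprime.commutator_le_of_le_normalizer hEWE) (Subgroup.commutator_le.2 fun w hw e he => ?_)
    have hw' : w ∈ ((WE ⊔ Z : Subgroup G) : Set G) := hsup.ge hw
    rw [Subgroup.coe_mul_of_right_le_normalizer_left WE Z ?_] at hw'
    · obtain ⟨a, ha, z, hz, rfl⟩ := hw'
      have h1 : ⁅a * z, e⁆ = a * ⁅z, e⁆ * a⁻¹ * ⁅a, e⁆ := by simp only [commutatorElement_def]; group
      rw [h1, show ⁅z, e⁆ = 1 from commutatorElement_eq_one_iff_mul_comm.2
        (Subgroup.mem_centralizer_iff.1 hz.2 e he).symm, mul_one, mul_inv_cancel, one_mul]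
      exact Subgroup.commutator_mem_commutator ha he
    · refine le_trans ?_ (Subgroup.centralizer_le_normalizer _)
      intro z hz
      refine Subgroup.mem_centralizer_iff.2 fun a ha => ?_
      exact Subgroup.mem_centralizer_iff.1 (omegaOneCenter_le p Q hz.1).2 a
        (omegaOneCenter_le p Q (hWEW ha)).1
  refine ⟨hidem, hsup, fun hbot => hnotcent ?_⟩
  rw [Subgroup.le_centralizer_iff, ← Subgroup.commutator_eq_bot_iff_le_centralizer]
  exact hbot

variable (hG : Subgroup.centralizer (Cfsg.pCore p G : Set G) ≤ Cfsg.pCore p G)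
include hG

/-- `W_E ≤ Ω₁(Z(O_p(G)))`. -/
theorem commutator_le_omegaOneCenter_pCore :
    ⁅Cfsg.omegaOneCenter p (Cfsg.pCoreOf p E), E⁆ ≤ Cfsg.omegaOneCenter p (Cfsg.pCore p G) := by
  have D := isBaumannBlock_moduleData hE
  obtain ⟨-, hsup, -⟩ := commutator_facts T hE
  set Q := Cfsg.pCoreOf p E with hQ
  set W := Cfsg.omegaOneCenter p Q with hW
  set Z := W ⊓ Subgroup.centralizer (E : Set G) with hZ
  set P := Cfsg.pCore p G with hP
  have hPp : IsPGroup p P := Cores.pCore_isPGroup p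
  have hPE : P ≤ Subgroup.normalizer (E : Set G) :=
    le_normalizer_block T hE.1 hE.2.1 hPp Subgroup.le_normalizer_of_normal Subgroup.le_normalizer_of_normal
  have hPEQ : ⁅P, E⁆ ≤ Q :=
    (le_inf (Subgroup.le_normalizer_iff_commutator_le_left.1 Subgroup.le_normalizer_of_normal)
      (Subgroup.le_normalizer_iff_commutator_le_right.1 hPE)).trans
      (CharP.le_pCoreOf (hPp.to_le inf_le_left) inf_le_right
        (CharP.le_normalizer_inf Subgroup.le_normalizer_of_normal Subgroup.le_normalizer))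
  have hNW : Subgroup.normalizer (E : Set G) ≤ Subgroup.normalizer (W : Set G) := fun g hg =>
    normalizer_le_omegaOneCenter p Q (CharP.normalizer_le_normalizer_map_char _ hg)
  have hNZ : Subgroup.normalizer (E : Set G) ≤ Subgroup.normalizer (Z : Set G) :=
    CharP.le_normalizer_inf hNW (fun g hg => mem_normalizer_of_forall fun x hx =>
      Subgroup.mem_centralizer_iff.2 fun e he => by
        have h1 := Subgroup.mem_centralizer_iff.1 hx _ ((Subgroup.mem_normalizer_iff''.1 hg e).1 he)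
        calc e * (g * x * g⁻¹) = g * (g⁻¹ * e * g * x) * g⁻¹ := by group
          _ = g * (x * (g⁻¹ * e * g)) * g⁻¹ := by rw [h1]
          _ = g * x * g⁻¹ * e := by group)
  have hWp : IsPGroup p W := (CharP.isPGroup_pCoreOf p E).to_le ((omegaOneCenter_le p Q).trans inf_le_left)
  have hWab : ∀ a ∈ W, ∀ b ∈ W, a * b = b * a := fun a ha b hb =>
    Subgroup.mem_centralizer_iff.1 (omegaOneCenter_le p Q hb).2 a (omegaOneCenter_le p Q ha).1
  let U : Subgroup G :=
    { carrier := {w | w ∈ W ∧ ∀ u ∈ P, ⁅w, u⁆ ∈ Z}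
      one_mem' := ⟨one_mem _, fun u _ => by rw [commutatorElement_one_left]; exact one_mem _⟩
      mul_mem' := fun {a b} ha hb => ⟨mul_mem ha.1 hb.1, fun u hu => by
        rw [show ⁅a * b, u⁆ = a * ⁅b, u⁆ * a⁻¹ * ⁅a, u⁆ by simp only [commutatorElement_def]; group,
          hWab a ha.1 _ (hb.2 u hu).1, mul_inv_cancel_right]
        exact mul_mem (hb.2 u hu) (ha.2 u hu)⟩
      inv_mem' := fun {a} ha => ⟨inv_mem ha.1, fun u hu => by
        rw [show ⁅a⁻¹, u⁆ = a⁻¹ * ⁅a, u⁆⁻¹ * a by simp only [commutatorElement_def]; group,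
          hWab a⁻¹ (inv_mem ha.1) _ (inv_mem (ha.2 u hu).1), inv_mul_cancel_right]
        exact inv_mem (ha.2 u hu)⟩ }
  have hUW : U ≤ W := fun w hw => hw.1
  have hZU : Z ≤ U := fun z hz => ⟨hz.1, fun u hu => by
    rw [commutatorElement_def, show z * u * z⁻¹ * u⁻¹ = z * (u * z⁻¹ * u⁻¹) by group]
    exact mul_mem hz ((Subgroup.mem_normalizer_iff.1 (hNZ (hPE hu)) _).1 (inv_mem hz))⟩
  have hEU : E ≤ Subgroup.normalizer (U : Set G) := fun e he => mem_normalizer_of_forall fun w hw =>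
    ⟨(Subgroup.mem_normalizer_iff.1 (hNW (Subgroup.le_normalizer he)) w).1 hw.1, fun u hu => by
      rw [show ⁅e * w * e⁻¹, u⁆ = e * ⁅w, e⁻¹ * u * e⁆ * e⁻¹ by simp only [commutatorElement_def]; group]
      refine (Subgroup.mem_normalizer_iff.1 (hNZ (Subgroup.le_normalizer he)) _).1 (hw.2 _ ?_)
      simpa using Subgroup.Normal.conj_mem (H := P) inferInstance u hu e⁻¹⟩
  have hUW' : U = W := by
    refine (D.irred U hZU hUW hEU).resolve_left fun h => ?_
    obtain ⟨v, hv, hvZ, hfix⟩ := CharP.exists_fixed_mod (V := W) (Z := Z) hPp hWp (hPE.trans hNW)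
      fun hle => D.ne (le_antisymm inf_le_left hle)
    exact hvZ (h.le ⟨hv, hfix⟩)
  have hWPE : ⁅⁅W, P⁆, E⁆ = ⊥ := by
    rw [Subgroup.commutator_eq_bot_iff_le_centralizer, Subgroup.commutator_le]
    exact fun w hw u hu => ((hUW'.ge hw).2 u hu).2
  have hPEW : ⁅⁅P, E⁆, W⁆ = ⊥ := by
    rw [Subgroup.commutator_eq_bot_iff_le_centralizer]
    exact hPEQ.trans fun x hx => Subgroup.mem_centralizer_iff.2 fun w hw =>
      (Subgroup.mem_centralizer_iff.1 (omegaOneCenter_le p Q hw).2 x hx).symm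
  have hEWP : ⁅⁅E, W⁆, P⁆ = ⊥ :=
    Subgroup.commutator_commutator_eq_bot_of_rotate (H₁ := E) (H₂ := W) (H₃ := P) hWPE hPEW
  have h3 : ⁅⁅W, E⁆, P⁆ = ⊥ := by
    rw [Subgroup.commutator_comm W E]
    exact hEWP
  intro x hx
  have hxC : x ∈ Subgroup.centralizer (P : Set G) := (Subgroup.commutator_eq_bot_iff_le_centralizer.1 h3) hx
  have hxW : x ∈ W := by
    rw [← hsup]
    exact Subgroup.mem_sup_left hx
  have hxp : x ^ p = 1 := omegaOneCenter_pow p Q hxW
  have hmem : x ∈ {y : G | y ∈ P ⊓ Subgroup.centralizer (P : Set G) ∧ y ^ p = 1} :=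
    ⟨Subgroup.mem_inf.2 ⟨hG hxC, hxC⟩, hxp⟩
  show x ∈ Subgroup.closure {y : G | y ∈ P ⊓ Subgroup.centralizer (P : Set G) ∧ y ^ p = 1}
  exact Subgroup.subset_closure hmem

/-- `J(T)` does not centralise `W_E`. -/
theorem commutator_thompson_ne :
    ⁅⁅Cfsg.omegaOneCenter p (Cfsg.pCoreOf p E), E⁆, Cfsg.thompsonSubgroupOf p (T : Subgroup G)⁆ ≠ ⊥ := by
  obtain ⟨hidem, hsup, hne⟩ := commutator_facts T hE
  have hWE := commutator_le_omegaOneCenter_pCore T hE hG
  set Q := Cfsg.pCoreOf p E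
  set W := Cfsg.omegaOneCenter p Q
  set WE := ⁅W, E⁆
  intro hbot
  have hWEJ := Subgroup.commutator_eq_bot_iff_le_centralizer.1 hbot
  obtain ⟨A, hA⟩ := PGroups.maxElemAbIn_nonempty p (T : Subgroup G)
  have hWET : WE ≤ (T : Subgroup G) :=
    hWE.trans ((omegaOneCenter_le p _).trans (inf_le_left.trans (Cores.pCore_le_sylow T)))
  have hWEel : Cfsg.IsElementaryAbelian p WE := by
    refine ⟨⟨⟨fun a b => Subtype.ext ?_⟩⟩, fun a ha => omegaOneCenter_pow p _ (hWE ha)⟩
    exact Subgroup.mem_centralizer_iff.1 (omegaOneCenter_le p _ (hWE b.2)).2 a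
      (omegaOneCenter_le p _ (hWE a.2)).1
  have hAsup : Cfsg.IsElementaryAbelian p (A ⊔ WE) := PGroups.elemAb_sup hA.2.1 hWEel fun a ha b hb =>
    Subgroup.mem_centralizer_iff.1 (hWEJ hb) a (PGroups.le_thompsonSubgroupOf hA ha)
  have hWEA : WE ≤ A := by
    have h1 := Subgroup.eq_of_le_of_card_ge (le_sup_left : A ≤ A ⊔ WE) (hA.2.2 _ (sup_le hA.1 hWET) hAsup)
    exact h1 ▸ le_sup_right
  have hWEB : ⁅WE, Cfsg.baumannSubgroupOf p (T : Subgroup G)⁆ = ⊥ := by
    rw [Subgroup.commutator_eq_bot_iff_le_centralizer]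
    intro x hx
    refine Subgroup.mem_centralizer_iff.2 fun b hb => (Subgroup.mem_centralizer_iff.1 hb.2 x ?_).symm
    refine Subgroup.subset_closure ⟨⟨PGroups.le_thompsonSubgroupOf hA (hWEA hx), ?_⟩,
      omegaOneCenter_pow p _ (hWE hx)⟩
    exact hWEJ hx
  refine hne ?_
  rw [← hidem]
  have h : ⁅⁅E, Cfsg.baumannSubgroupOf p (T : Subgroup G)⁆, WE⁆ = ⊥ := by
    refine Subgroup.commutator_commutator_eq_bot_of_rotate ?_ ?_
    · rw [Subgroup.commutator_comm _ WE, hWEB, Subgroup.commutator_bot_left]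
    · rw [hidem, hWEB]
  rwa [hE.2.1, Subgroup.commutator_comm] at h

end Main

end Cfsg.Agent.Lib.Baumann
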